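import Cfsg.Agent.Lib.InvZ4.AbP

/-!
# The classification: `T` has a cyclic normal subgroup with a cyclic quotient, or one of two shapes
-/

set_option autoImplicit false
set_option linter.unusedSectionVars false
set_option linter.unusedVariables false

namespace Cfsg.Agent.Lib.InvZ4.AbC

open Subgroup Cfsg.Agent.Lib.InvZ4.Grow Cfsg.Agent.Lib.InvZ4.Cases Cfsg.Agent.Lib.InvZ4.AbN
  Cfsg.Agent.Lib.InvZ4.AbP

variable {G : Type*} [Group G] [Finite G] {T N : Subgroup G} {t x c w e : G}

namespace BD

open AbP.BD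

variable (D : AbP.BD T N t x c w e)
include D

theorem conj_gen (k : ℤ) : e⁻¹ * w ^ k * e = (e⁻¹ * w * e) ^ k := by
  have := conj_zpow (a := e⁻¹) (b := w) (i := k)
  simpa using this.symm

theorem classify (hna : ¬ ∀ g ∈ N, e * g = g * e) : QC T ∨ O2 T c (x * x) ∨ O3 T c (x * x) := by
  have hcov : ∀ g ∈ T, g ∈ N ∨ ∃ n ∈ N, g = e * n := by
    intro g hg
    rw [← D.P_top hna] at hg
    rcases hg with h | h
    · exact Or.inl h
    · exact Or.inr ⟨_, h, by group⟩
  by_cases hd : e * e ∈ zpowers w
  swap
  · -- the cyclic quotient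
    have hcd : c * (e * e) ∈ zpowers w := (D.gen _ D.ee).resolve_left hd
    left
    refine ⟨w, D.NT D.wN, e, D.eT, ?_, ?_, hd⟩
    · intro h hh
      rcases hcov h hh with h1 | ⟨n, hn, rfl⟩
      · have h2 := D.Nab _ h1 _ D.wN
        rw [h2, mul_inv_cancel_right]
        exact mem_zpowers w
      · have h2 := D.Nab _ hn _ D.wN
        have h3 : e * n * w * (e * n)⁻¹ = e * w * e⁻¹ := by
          calc e * n * w * (e * n)⁻¹ = e * (n * w) * n⁻¹ * e⁻¹ := by group
            _ = e * (w * n) * n⁻¹ * e⁻¹ := by rw [h2]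
            _ = _ := by group
        rw [h3]
        exact D.conj_w' (mem_zpowers w)
    · have key : ∀ n ∈ N, n ∈ zpowers w ∨ n * (e * e) ∈ zpowers w := by
        intro n hn
        rcases D.gen n hn with h1 | h1
        · exact Or.inl h1
        · right
          have h2 : n * (e * e) = (c * n) * (c * (e * e)) := by
            have h3 := D.Nab _ hn _ D.cN
            calc n * (e * e) = n * (c * c) * (e * e) := by rw [D.C.cc, mul_one]
              _ = (n * c) * c * (e * e) := by group
              _ = (c * n) * c * (e * e) := by rw [h3]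
              _ = _ := by group
          rw [h2]
          exact mul_mem h1 hcd
      intro h hh
      rcases hcov h hh with h1 | ⟨n, hn, rfl⟩
      · rcases key h h1 with h2 | h2
        · exact ⟨0, by simpa using h2⟩
        · refine ⟨2, ?_⟩
          rw [show (2 : ℤ) = ((2 : ℕ) : ℤ) from rfl, zpow_natCast, sq]
          exact h2
      · have hn' : e * n * e⁻¹ ∈ N := D.ec' _ hn
        rcases key _ hn' with h2 | h2
        · refine ⟨-1, ?_⟩
          rw [zpow_neg_one]
          exact h2
        · refine ⟨1, ?_⟩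
          rw [zpow_one]
          have h3 : e * n * e = e * n * e⁻¹ * (e * e) := by group
          rw [h3]
          exact h2
  obtain ⟨i, hi⟩ := hd
  have hi' : e * e = w ^ i := hi.symm
  have hd : e * e ∈ zpowers w := ⟨i, hi⟩
  rcases Int.emod_two_eq_zero_or_one i with hie | hio
  swap
  · -- `e²` generates `⟨w⟩`
    have hew := D.comm_of_odd hi' hio
    rcases D.cprime with hc | hc
    · exact absurd (D.comm_all hew hc) hna
    · right; left
      obtain ⟨m, hm⟩ := D.ord
      have hwd : w ∈ zpowers (e * e) := by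
        rw [hi']
        exact mem_zpowers_odd hm hio
      have hwK : zpowers w ≤ zpowers e := by
        rw [zpowers_le]
        have h2 : zpowers (e * e) ≤ zpowers e :=
          zpowers_le.mpr (mul_mem (mem_zpowers e) (mem_zpowers e))
        exact h2 hwd
      refine ⟨zpowers e, zpowers_le.mpr D.eT, ?_, ?_, ?_⟩
      · rintro ⟨k, hk⟩
        have hk' : e ^ k = c := hk
        have h3 : e⁻¹ * c * e = c := by
          have h4 : e * c = c * e := by
            rw [← hk']
            exact ((Commute.refl e).zpow_right k).eq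
          calc e⁻¹ * c * e = e⁻¹ * (c * e) := by group
            _ = e⁻¹ * (e * c) := by rw [h4]
            _ = c := by group
        rw [hc] at h3
        apply D.z1
        have h5 : c * (x * x) = c * 1 := by rw [h3, mul_one]
        exact mul_left_cancel h5
      · intro g hg
        rcases hcov g hg with h1 | ⟨n, hn, rfl⟩
        · rcases D.gen g h1 with h2 | h2
          · exact Or.inl (hwK h2)
          · exact Or.inr (hwK h2)
        · rcases D.gen n hn with h2 | h2
          · exact Or.inl (mul_mem (mem_zpowers e) (hwK h2))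
          · right
            have h3 : c * (e * n) = e * ((x * x) * (c * n)) := by
              calc c * (e * n) = e * (e⁻¹ * c * e) * n := by group
                _ = e * (c * (x * x)) * n := by rw [hc]
                _ = e * ((x * x) * c) * n := by rw [D.Nab _ D.cN _ D.zN]
                _ = _ := by group
            rw [h3]
            exact mul_mem (mem_zpowers e) (hwK (mul_mem D.zw h2))
      · intro k hk hkk
        obtain ⟨j, hj⟩ := hk
        have hj' : k = e ^ j := hj.symm
        rcases Int.emod_two_eq_zero_or_one j with h | h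
        · obtain ⟨l, rfl⟩ : ∃ l, j = 2 * l := ⟨j / 2, by omega⟩
          have hkw : k ∈ zpowers w := by
            have h3 : k = (e * e) ^ l := by
              rw [hj', zpow_mul, zpow_two]
            rw [h3]
            exact zpow_mem hd l
          by_cases h1 : k = 1
          · exact Or.inl h1
          · exact Or.inr (D.invol hkw hkk h1)
        · exfalso
          obtain ⟨l, rfl⟩ : ∃ l, j = 2 * l + 1 := ⟨j / 2, by omega⟩
          have h3 : (e * e) ^ (2 * l + 1) = 1 := by
            rw [← hkk, hj', ← zpow_add, ← zpow_two, ← zpow_mul]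
            congr 1
            ring
          obtain ⟨M, hM⟩ := order_two_pow D.I (T.mul_mem D.eT D.eT)
          have h4 : e * e ∈ zpowers ((e * e) ^ (2 * l + 1)) := mem_zpowers_odd hM (by omega)
          rw [h3, zpowers_one_eq_bot, mem_bot] at h4
          rw [h4, zpowers_one_eq_bot, mem_bot] at hwd
          exact D.w1 hwd
  -- `e` inverts `w`
  obtain ⟨a, ha, hodd⟩ := D.expa
  obtain ⟨hdd, hinvw⟩ := D.even_case ha hodd hi' hie
  have hinv : ∀ y ∈ zpowers w, e⁻¹ * y * e = y⁻¹ := by
    rintro _ ⟨k, rfl⟩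
    show e⁻¹ * w ^ k * e = (w ^ k)⁻¹
    rw [conj_gen D, hinvw, inv_zpow]
  rcases D.cprime with hc | hc
  · right; right
    have hec : e * c = c * e := by
      calc e * c = e * (e⁻¹ * c * e) := by rw [hc]
        _ = c * e := by group
    have hce : ∀ g ∈ T, g * c = c * g := by
      intro g hg
      rcases hcov g hg with h1 | ⟨n, hn, rfl⟩
      · exact D.Nab _ h1 _ D.cN
      · calc e * n * c = e * (n * c) := by group
          _ = e * (c * n) := by rw [D.Nab _ hn _ D.cN]
          _ = (e * c) * n := by group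
          _ = (c * e) * n := by rw [hec]
          _ = _ := by group
    have hsqw : ∀ g ∈ T, g * g ∈ zpowers w := by
      intro g hg
      rcases hcov g hg with h1 | ⟨n, hn, rfl⟩
      · rcases D.gen g h1 with h2 | h2
        · exact mul_mem h2 h2
        · have h3 : g * g = (c * g) * (c * g) := by
            have h4 := D.Nab _ h1 _ D.cN
            calc g * g = (c * c) * (g * g) := by rw [D.C.cc, one_mul]
              _ = c * (c * g) * g := by group
              _ = c * (g * c) * g := by rw [h4]
              _ = _ := by group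
          rw [h3]
          exact mul_mem h2 h2
      · have h3 : (e * n) * (e * n) = (e * e) * ((e⁻¹ * n * e) * n) := by group
        have h4 : (e⁻¹ * n * e) * n = 1 := by
          rcases D.gen n hn with h2 | h2
          · rw [hinv n h2]
            group
          · obtain ⟨y, hy, rfl⟩ : ∃ y ∈ zpowers w, n = c * y :=
              ⟨c * n, h2, by rw [← mul_assoc, D.C.cc, one_mul]⟩
            calc (e⁻¹ * (c * y) * e) * (c * y) = (e⁻¹ * c * e) * (e⁻¹ * y * e) * (c * y) := by group
              _ = c * y⁻¹ * (c * y) := by rw [hc, hinv y hy]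
              _ = c * (y⁻¹ * c) * y := by group
              _ = c * (c * y⁻¹) * y := by rw [D.hcw' (inv_mem hy)]
              _ = (c * c) * (y⁻¹ * y) := by group
              _ = 1 := by rw [D.C.cc]; group
        rw [h3, h4, mul_one]
        exact hd
    refine ⟨hce, fun g hg h => D.c_nw (h ▸ hsqw g hg), ext2 (zpowers w) e (fun n hn => D.conj_w hn) hd,
      ?_, ?_, ?_, ?_⟩
    · rintro g (hg | hg)
      · exact D.NT (D.powN hg)
      · have := T.mul_mem D.eT (D.NT (D.powN hg))
        simpa using this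
    · rintro (h | h)
      · exact D.c_nw h
      · apply D.eN
        have h3 := N.mul_mem (D.powN h) (N.inv_mem D.cN)
        have h4 : e⁻¹ * c * c⁻¹ = e⁻¹ := by group
        rw [h4] at h3
        simpa using N.inv_mem h3
    · intro g hg
      rcases hcov g hg with h1 | ⟨n, hn, rfl⟩
      · rcases D.gen g h1 with h2 | h2
        · exact Or.inl (Or.inl h2)
        · exact Or.inr (Or.inl h2)
      · rcases D.gen n hn with h2 | h2
        · left
          right
          simpa using h2
        · right
          right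
          have h3 : e⁻¹ * (c * (e * n)) = c * n := by
            rw [← mul_assoc c, ← hec]
            group
          rw [h3]
          exact h2
    · rintro k (hk | hk) hcen
      · have h1 := hinv k hk
        have h2 := hcen e D.eT
        have h3 : e⁻¹ * k * e = k := by
          calc e⁻¹ * k * e = e⁻¹ * (k * e) := by group
            _ = e⁻¹ * (e * k) := by rw [h2]
            _ = k := by group
        rw [h1] at h3
        have hkk : k * k = 1 := by
          nth_rw 1 [← h3]
          simp
        by_cases h5 : k = 1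
        · exact Or.inl h5
        · exact Or.inr (D.invol hk hkk h5)
      · exfalso
        obtain ⟨y, hy, rfl⟩ : ∃ y ∈ zpowers w, k = e * y :=
          ⟨e⁻¹ * k, hk, by group⟩
        have h1 := hcen w (D.NT D.wN)
        have h3 : y * w = w * y := D.Nab _ (D.powN hy) _ D.wN
        have h4 : w * e = e * w := by
          have h5 : w * e * y = e * w * y := by
            calc w * e * y = w * (e * y) := by group
              _ = e * y * w := h1
              _ = e * (y * w) := by group
              _ = e * (w * y) := by rw [h3]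
              _ = _ := by group
          exact mul_right_cancel h5
        have h6 : e⁻¹ * w * e = w := by
          calc e⁻¹ * w * e = e⁻¹ * (w * e) := by group
            _ = e⁻¹ * (e * w) := by rw [h4]
            _ = w := by group
        rw [hinvw] at h6
        apply D.w2
        nth_rw 1 [← h6]
        simp
  · right; left
    have hy : c * x ∈ zpowers w := D.cx_w
    have hcxx : c * x = x * c := D.C.comm
    have hyy : (c * x) * (c * x) = x * x := by
      calc (c * x) * (c * x) = c * (x * c) * x := by group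
        _ = c * (c * x) * x := by rw [hcxx]
        _ = (c * c) * (x * x) := by group
        _ = _ := by rw [D.C.cc, one_mul]
    have hxe : e⁻¹ * x * e = x := by
      have h1 : x = c * (c * x) := by rw [← mul_assoc, D.C.cc, one_mul]
      calc e⁻¹ * x * e = e⁻¹ * (c * (c * x)) * e := by rw [← h1]
        _ = (e⁻¹ * c * e) * (e⁻¹ * (c * x) * e) := by group
        _ = c * (x * x) * (c * x)⁻¹ := by rw [hc, hinv _ hy]
        _ = c * ((c * x) * (c * x)) * (c * x)⁻¹ := by rw [hyy]
        _ = c * (c * x) := by group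
        _ = x := h1.symm
    have hxe' : e * x = x * e := by
      calc e * x = e * (e⁻¹ * x * e) := by rw [hxe]
        _ = x * e := by group
    by_cases hd1 : e * e = 1
    · -- `e' = e x`
      have hyx : ∀ y ∈ zpowers w, x⁻¹ * y * x = y := by
        intro y hy
        have h1 := D.Nab _ D.xN _ (D.powN hy)
        calc x⁻¹ * y * x = x⁻¹ * (y * x) := by group
          _ = x⁻¹ * (x * y) := by rw [h1]
          _ = y := by group
      apply D.O2_of (e' := e * x) (T.mul_mem D.eT D.I.xT)
      · calc e * x * (e * x) = e * (x * e) * x := by group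
          _ = e * (e * x) * x := by rw [hxe']
          _ = (e * e) * (x * x) := by group
          _ = _ := by rw [hd1, one_mul]
      · intro y hy
        calc (e * x)⁻¹ * y * (e * x) = x⁻¹ * (e⁻¹ * y * e) * x := by group
          _ = x⁻¹ * y⁻¹ * x := by rw [hinv y hy]
          _ = y⁻¹ := hyx _ (inv_mem hy)
      · calc (e * x)⁻¹ * c * (e * x) = x⁻¹ * (e⁻¹ * c * e) * x := by group
          _ = x⁻¹ * (c * (x * x)) * x := by rw [hc]
          _ = x⁻¹ * c * x * (x * x) := by group
          _ = x⁻¹ * (x * c) * (x * x) := by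
              rw [← hcxx, mul_assoc x⁻¹ c x]
          _ = _ := by group
      · intro g hg
        rcases hcov g hg with h1 | ⟨n, hn, rfl⟩
        · exact Or.inl h1
        · right
          have h2 : (e * x)⁻¹ * (e * n) = x⁻¹ * n := by group
          rw [h2]
          exact N.mul_mem (N.inv_mem D.xN) hn
    · have hdz := D.invol hd hdd hd1
      apply D.O2_of (e' := e) D.eT hdz hinv hc
      intro g hg
      rcases hcov g hg with h1 | ⟨n, hn, rfl⟩
      · exact Or.inl h1
      · right
        have h2 : e⁻¹ * (e * n) = n := by group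
        rw [h2]
        exact hn

end BD

theorem ab_ext2 {N : Subgroup G} {e : G} {h1 : ∀ n ∈ N, e⁻¹ * n * e ∈ N} {h2 : e * e ∈ N}
    (hab : ∀ a ∈ N, ∀ b ∈ N, a * b = b * a) (hc : ∀ g ∈ N, e * g = g * e) :
    ∀ a ∈ ext2 N e h1 h2, ∀ b ∈ ext2 N e h1 h2, a * b = b * a := by
  have hform : ∀ a ∈ ext2 N e h1 h2, a ∈ N ∨ ∃ n ∈ N, a = e * n := by
    rintro a (h | h)
    · exact Or.inl h
    · exact Or.inr ⟨_, h, by group⟩
  intro a ha b hb
  rcases hform a ha with h3 | ⟨n, hn, rfl⟩ <;> rcases hform b hb with h4 | ⟨m, hm, rfl⟩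
  · exact hab a h3 b h4
  · calc a * (e * m) = (a * e) * m := by group
      _ = (e * a) * m := by rw [hc a h3]
      _ = e * (a * m) := by group
      _ = e * (m * a) := by rw [hab a h3 m hm]
      _ = _ := by group
  · calc e * n * b = e * (n * b) := by group
      _ = e * (b * n) := by rw [hab n hn b h4]
      _ = (e * b) * n := by group
      _ = (b * e) * n := by rw [hc b h4]
      _ = _ := by group
  · calc e * n * (e * m) = e * (n * e) * m := by group
      _ = e * (e * n) * m := by rw [hc n hn]
      _ = e * e * (n * m) := by group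
      _ = e * e * (m * n) := by rw [hab n hn m hm]
      _ = e * (e * m) * n := by group
      _ = e * (m * e) * n := by rw [hc m hm]
      _ = _ := by group

theorem qc_small (hab : ∀ a ∈ T, ∀ b ∈ T, a * b = b * a) {y : G} (hyT : y ∈ T) (hcT : c ∈ T)
    (hcc : c * c = 1) (hcov : ∀ h ∈ T, h ∈ zpowers y ∨ c * h ∈ zpowers y)
    (hyy : y * y ∉ zpowers c) : QC T := by
  refine ⟨c, hcT, y, hyT, ?_, ?_, hyy⟩
  · intro h hh
    rw [hab _ hh _ hcT, mul_inv_cancel_right]
    exact mem_zpowers c
  · intro h hh
    rcases hcov h hh with ⟨k, hk⟩ | ⟨k, hk⟩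
    · refine ⟨-k, ?_⟩
      have hk' : y ^ k = h := hk
      rw [← hk', ← zpow_add]
      simp
    · refine ⟨-k, ?_⟩
      have hk' : y ^ k = c * h := hk
      have h1 : h = c * y ^ k := by
        rw [hk', ← mul_assoc, hcc, one_mul]
      rw [h1, mul_assoc, ← zpow_add]
      simp [mem_zpowers]

theorem mem_zpowers_invol {c y : G} (hcc : c * c = 1) (hy : y ∈ zpowers c) : y = 1 ∨ y = c := by
  obtain ⟨k, rfl⟩ := hy
  show c ^ k = 1 ∨ c ^ k = c
  rcases Int.emod_two_eq_zero_or_one k with h | h
  · left
    obtain ⟨l, rfl⟩ : ∃ l, k = 2 * l := ⟨k / 2, by omega⟩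
    rw [zpow_mul, zpow_two, hcc, one_zpow]
  · right
    obtain ⟨l, rfl⟩ : ∃ l, k = 2 * l + 1 := ⟨k / 2, by omega⟩
    rw [zpow_add, zpow_mul, zpow_two, hcc, one_zpow, one_mul, zpow_one]

theorem abelian_case (I : Inst T t x) (C : CData T t x c)
    (hab : ∀ a ∈ T, ∀ b ∈ T, a * b = b * a) : QC T := by
  classical
  have hzz := sq_sq_z4 I.xo
  have hz1 := sq_ne_one_z4 I.xo
  have hzi : (x * x)⁻¹ = x * x := inv_eq_of_mul_eq_one_left hzz
  let W := invSub T t I.tt I.inv hab
  have hWp : IsPGroup 2 W := I.isP.to_le (fun g hg => hg.1)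
  have hcyc : IsCyclic W := by
    apply cyc_of_unique_inv hWp (fun a ha b hb => hab a ha.1 b hb.1)
    have key : ∀ u ∈ W, u * u = 1 → u ≠ 1 → u = x * x := by
      intro u hu h2 h1
      have h3 : u⁻¹ = u := inv_eq_of_mul_eq_one_left h2
      have h4 : t * u * t = u := by rw [hu.2, h3]
      exact invol_z4 I.xo (I.fix u hu.1 h4) h2 h1
    intro u hu v hv hu2 hv2 hu1 hv1
    rw [key u hu hu2 hu1, key v hv hv2 hv1]
  obtain ⟨⟨w₀, hw₀⟩, hgen⟩ := hcyc
  have hgen' : ∀ g ∈ T, t * g * t = g⁻¹ → ∃ k : ℤ, w₀ ^ k = g := by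
    intro g hg hgt
    obtain ⟨k, hk⟩ := hgen ⟨g, hg, hgt⟩
    exact ⟨k, by simpa using congrArg Subtype.val hk⟩
  have hφ : ∀ g ∈ T, t * ((t * g * t)⁻¹ * g) * t = ((t * g * t)⁻¹ * g)⁻¹ := by
    intro g hg
    rw [I.sigma_mul, I.sigma_inv, I.sigma_sigma, mul_inv_rev, inv_inv]
  have hcφ : (t * c * t)⁻¹ * c = x * x := by
    rw [C.sig, mul_inv_rev, inv_mul_cancel_right, hzi]
  by_cases hex : ∃ g₁ ∈ T, w₀ = (t * g₁ * t)⁻¹ * g₁
  · obtain ⟨g₁, hg₁, hw⟩ := hex
    let φh : T →* G := MonoidHom.mk' (fun g => (t * g * t)⁻¹ * (g : G)) (by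
      intro a b
      show (t * ((a : G) * b) * t)⁻¹ * ((a : G) * b) = _
      rw [I.sigma_mul]
      have h2 := hab _ (T.inv_mem (I.inv b b.2)) _ a.2
      calc (t * a * t * (t * b * t))⁻¹ * ((a : G) * b)
          = (t * b * t)⁻¹ * (t * a * t)⁻¹ * (a * b) := by group
        _ = (t * a * t)⁻¹ * (t * b * t)⁻¹ * (a * b) := by
            rw [hab _ (T.inv_mem (I.inv b b.2)) _ (T.inv_mem (I.inv a a.2))]
        _ = (t * a * t)⁻¹ * ((t * b * t)⁻¹ * a) * b := by group
        _ = (t * a * t)⁻¹ * (a * (t * b * t)⁻¹) * b := by rw [h2]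
        _ = _ := by group)
    have hφv : ∀ g : T, φh g = (t * (g : G) * t)⁻¹ * g := fun g => rfl
    have hcov : ∀ h ∈ T, ∃ k : ℤ, h * g₁ ^ k ∈ zpowers x := by
      intro h hh
      have hm : (t * h * t)⁻¹ * h ∈ T := T.mul_mem (T.inv_mem (I.inv h hh)) hh
      obtain ⟨k, hk⟩ := hgen' _ hm (hφ h hh)
      refine ⟨-k, ?_⟩
      have h1 : φh (⟨h, hh⟩ * (⟨g₁, hg₁⟩ : T) ^ (-k)) = 1 := by
        rw [map_mul, map_zpow, hφv, hφv]
        show (t * h * t)⁻¹ * h * ((t * g₁ * t)⁻¹ * g₁) ^ (-k) = 1
        rw [← hw, ← hk, ← zpow_add]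
        simp
      rw [hφv] at h1
      have h2 : t * ((⟨h, hh⟩ * (⟨g₁, hg₁⟩ : T) ^ (-k) : T) : G) * t
          = ((⟨h, hh⟩ * (⟨g₁, hg₁⟩ : T) ^ (-k) : T) : G) := by
        rw [inv_mul_eq_one] at h1
        exact h1
      have h3 := I.fix _ (⟨h, hh⟩ * (⟨g₁, hg₁⟩ : T) ^ (-k) : T).2 h2
      simpa using h3
    by_cases hg₁x : g₁ * g₁ ∈ zpowers x
    · apply qc_small hab I.xT C.cT C.cc
      · have hev : ∀ k : ℤ, g₁ ^ (2 * k) ∈ zpowers x := by
          intro k
          rw [zpow_mul, zpow_two]
          exact zpow_mem hg₁x k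
        have h1 : ∀ h ∈ T, h ∈ zpowers x ∨ h * g₁ ∈ zpowers x := by
          intro h hh
          obtain ⟨k, hk⟩ := hcov h hh
          rcases Int.emod_two_eq_zero_or_one k with h2 | h2
          · left
            obtain ⟨l, rfl⟩ : ∃ l, k = 2 * l := ⟨k / 2, by omega⟩
            have h3 := mul_mem hk (inv_mem (hev l))
            simpa using h3
          · right
            obtain ⟨l, rfl⟩ : ∃ l, k = 2 * l + 1 := ⟨k / 2, by omega⟩
            have h3 := mul_mem hk (inv_mem (hev l))
            have h4 : h * g₁ ^ (2 * l + 1) * (g₁ ^ (2 * l))⁻¹ = h * g₁ := by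
              rw [zpow_add, zpow_one]
              have h5 : Commute (g₁ ^ (2 * l)) g₁ := ((Commute.refl g₁).zpow_left (2 * l))
              rw [mul_assoc h, h5.eq]
              group
            rw [h4] at h3
            exact h3
        have hcg := (h1 c C.cT).resolve_left C.cx
        intro h hh
        rcases h1 h hh with h2 | h2
        · exact Or.inl h2
        · right
          have h3 := mul_mem (mul_mem hcg h2) (inv_mem hg₁x)
          have h4 : c * g₁ * (h * g₁) * (g₁ * g₁)⁻¹ = c * h := by
            have h5 := hab _ hg₁ _ hh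
            calc c * g₁ * (h * g₁) * (g₁ * g₁)⁻¹ = c * (g₁ * h) * g₁ * (g₁ * g₁)⁻¹ := by group
              _ = c * (h * g₁) * g₁ * (g₁ * g₁)⁻¹ := by rw [h5]
              _ = _ := by group
          rw [h4] at h3
          exact h3
      · intro h
        rcases mem_zpowers_invol C.cc h with h1 | h1
        · exact hz1 h1
        · apply C.cx
          rw [← h1]
          exact mul_mem (mem_zpowers x) (mem_zpowers x)
    · refine ⟨x, I.xT, g₁, hg₁, ?_, hcov, hg₁x⟩
      intro h hh
      rw [hab _ hh _ I.xT, mul_inv_cancel_right]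
      exact mem_zpowers x
  · -- `w₀` is not in the image of the map
    push_neg at hex
    have hw₀t : t * w₀ * t = w₀⁻¹ := hw₀.2
    obtain ⟨-, hB⟩ := struct_N I C (N := T) le_rfl I.xT C.cT I.inv hab hw₀.1 hw₀t hex
    apply qc_small hab hw₀.1 C.cT C.cc hB
    intro h
    rcases mem_zpowers_invol C.cc h with h1 | h1
    · have h2 : w₀⁻¹ = w₀ := inv_eq_of_mul_eq_one_left h1
      have h3 : t * w₀ * t = w₀ := by rw [hw₀t, h2]
      have hne : w₀ ≠ 1 := by
        rintro rfl
        apply hex 1 (T.one_mem)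
        simp [I.tt]
      have h4 := invol_z4 I.xo (I.fix w₀ hw₀.1 h3) h1 hne
      apply hex c C.cT
      rw [h4, hcφ]
    · have h2 := C.sig
      rw [← h1, I.sigma_mul, hw₀t] at h2
      apply hz1
      have h3 : w₀⁻¹ * w₀⁻¹ = (w₀ * w₀)⁻¹ := by group
      rw [h3, h1, inv_eq_of_mul_eq_one_left C.cc] at h2
      have h4 : c * (x * x) = c * 1 := by rw [← h2, mul_one]
      exact mul_left_cancel h4

/-- The top theorem for the `ℤ/4 × ℤ/2` case. -/
theorem ab_cases (I : Inst T t x) (C : CData T t x c) :
    QC T ∨ O2 T c (x * x) ∨ O3 T c (x * x) := by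
  classical
  have hzz := sq_sq_z4 I.xo
  let Pab : Set (Subgroup G) := {N | N ≤ T ∧ x ∈ N ∧ c ∈ N ∧ (∀ g ∈ N, t * g * t ∈ N) ∧
    ∀ a ∈ N, ∀ b ∈ N, a * b = b * a}
  have hcomm : ∀ y ∈ zpowers x, c * y = y * c := by
    rintro _ ⟨k, rfl⟩
    exact ((show Commute c x from C.comm).zpow_right k).eq
  have hst : ∀ r ∈ zpowers x, t * r * t = r := by
    rintro _ ⟨k, rfl⟩
    show t * x ^ k * t = x ^ k
    rw [I.sigma_zpow, I.tx]
  have h1₀ : ∀ n ∈ zpowers x, c⁻¹ * n * c ∈ zpowers x := by
    intro n hn
    have : c⁻¹ * n * c = n := by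
      calc c⁻¹ * n * c = c⁻¹ * (n * c) := by group
        _ = c⁻¹ * (c * n) := by rw [hcomm n hn]
        _ = n := by group
    rw [this]
    exact hn
  have h2₀ : c * c ∈ zpowers x := by rw [C.cc]; exact one_mem _
  have h₀ : ext2 (zpowers x) c h1₀ h2₀ ∈ Pab := by
    refine ⟨?_, Or.inl (mem_zpowers x), self_mem_ext2, ?_, ?_⟩
    · rintro g (hg | hg)
      · exact (zpowers_le.mpr I.xT) hg
      · have := T.mul_mem C.cT ((zpowers_le.mpr I.xT) hg)
        simpa using this
    · rintro g (hg | hg)
      · rw [hst g hg]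
        exact Or.inl hg
      · right
        have h3 : t * g * t = (t * c * t) * (t * (c⁻¹ * g) * t) := by
          rw [← I.sigma_mul]
          group
        rw [h3, C.sig, hst _ hg]
        have h4 : c⁻¹ * (c * (x * x) * (c⁻¹ * g)) = (x * x) * (c⁻¹ * g) := by group
        rw [h4]
        exact mul_mem (mul_mem (mem_zpowers x) (mem_zpowers x)) hg
    · apply ab_ext2
      · rintro _ ⟨i, rfl⟩ _ ⟨j, rfl⟩
        show x ^ i * x ^ j = x ^ j * x ^ i
        exact ((Commute.refl x).zpow_zpow i j).eq
      · exact hcomm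
  obtain ⟨N, -, hmax⟩ := (Set.toFinite Pab).exists_le_maximal h₀
  obtain ⟨hNT, hxN, hcN, hNt, hNab⟩ := hmax.prop
  by_cases hNeq : N = T
  · subst hNeq
    left
    exact abelian_case I C hNab
  obtain ⟨e, heT, heN, h1, h2, n, hn, hen, hnt, hnφ, -⟩ := grow I hNT hxN hNt hNeq
  obtain ⟨hA, hB⟩ := struct_N I C hNT hxN hcN hNt hNab hn hnt hnφ
  have hes : t * e * t = e * n⁻¹ := by
    have h3 : t * e = e * (t * n) := by
      rw [← hen]
      group
    rw [h3, mul_assoc, mul_assoc, ← mul_assoc t n t, hnt]
  have D : AbP.BD T N t x c n e :=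
    ⟨I, C, hNT, hxN, hcN, hNt, hNab, hn, hnt, hA, hB, hnφ, heT, heN, h1, h2, hes⟩
  have hna : ¬ ∀ g ∈ N, e * g = g * e := by
    intro hcom
    have hP : D.P ∈ Pab :=
      ⟨D.P_le, Or.inl hxN, Or.inl hcN, D.P_sigma, ab_ext2 hNab hcom⟩
    have h3 := hmax.le_of_ge hP le_ext2
    exact heN (h3 self_mem_ext2)
  exact BD.classify D hna

end Cfsg.Agent.Lib.InvZ4.AbC
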