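import Cfsg.Agent.Lib.InvZ4.Cases

/-!
# Abelian invariant subgroups containing the fixed points
-/

set_option autoImplicit false
set_option linter.unusedSectionVars false
set_option linter.unusedVariables false

namespace Cfsg.Agent.Lib.InvZ4.AbN

open Subgroup Cfsg.Agent.Lib.InvZ4.Grow Cfsg.Agent.Lib.InvZ4.Cases

variable {G : Type*} [Group G] [Finite G] {T N : Subgroup G} {t x c n : G}

/-- An odd power of an element of `2`-power order generates the same cyclic subgroup. -/
theorem mem_zpowers_odd {a : G} {m : ℕ} (ha : orderOf a = 2 ^ m) {k : ℤ} (hk : k % 2 = 1) :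
    a ∈ zpowers (a ^ k) := by
  have hc : IsCoprime k ((2 : ℤ) ^ m) := by
    apply IsCoprime.pow_right
    rw [Int.isCoprime_iff_gcd_eq_one]
    have : Int.gcd k 2 ∣ 2 := by exact_mod_cast Int.gcd_dvd_right k 2
    have h2 : (Int.gcd k 2 : ℤ) ∣ k := Int.gcd_dvd_left k 2
    rcases (Nat.dvd_prime Nat.prime_two).mp this with h | h
    · exact h
    · exfalso
      rw [h] at h2
      omega
  obtain ⟨u, v, huv⟩ := hc
  refine ⟨u, ?_⟩
  show (a ^ k) ^ u = a
  have h1 : a ^ ((2 : ℤ) ^ m) = 1 := by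
    have : a ^ (2 ^ m : ℕ) = 1 := by rw [← ha]; exact pow_orderOf_eq_one a
    exact_mod_cast this
  calc (a ^ k) ^ u = a ^ (u * k) * (a ^ ((2 : ℤ) ^ m)) ^ v := by
        rw [h1, one_zpow, mul_one, ← zpow_mul, mul_comm]
    _ = a ^ (u * k + v * 2 ^ m) := by
        rw [zpow_add, ← zpow_mul, mul_comm v]
    _ = a := by rw [huv, zpow_one]

theorem order_two_pow (I : Inst T t x) {a : G} (ha : a ∈ T) : ∃ m : ℕ, orderOf a = 2 ^ m := by
  obtain ⟨k, hk⟩ := I.isP ⟨a, ha⟩
  have h1 : a ^ 2 ^ k = 1 := by simpa using congrArg Subtype.val hk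
  obtain ⟨m, -, hm⟩ := (Nat.dvd_prime_pow Nat.prime_two).mp (orderOf_dvd_of_pow_eq_one h1)
  exact ⟨m, hm⟩

/-- The subgroup of inverted elements of an abelian invariant subgroup. -/
def invSub (N : Subgroup G) (t : G) (tt : t * t = 1) (hN : ∀ g ∈ N, t * g * t ∈ N)
    (hab : ∀ a ∈ N, ∀ b ∈ N, a * b = b * a) : Subgroup G where
  carrier := {g | g ∈ N ∧ t * g * t = g⁻¹}
  one_mem' := ⟨N.one_mem, by simp [tt]⟩
  inv_mem' := by
    rintro g ⟨h1, h2⟩
    refine ⟨N.inv_mem h1, ?_⟩
    have h3 : t⁻¹ = t := by rw [inv_eq_iff_mul_eq_one]; exact tt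
    calc t * g⁻¹ * t = t * g⁻¹ * t⁻¹ := by rw [h3]
      _ = (t * g * t⁻¹)⁻¹ := by group
      _ = (t * g * t)⁻¹ := by rw [h3]
      _ = g⁻¹⁻¹ := by rw [h2]
  mul_mem' := by
    rintro a b ⟨h1, h2⟩ ⟨h3, h4⟩
    refine ⟨N.mul_mem h1 h3, ?_⟩
    have h5 : t * (a * b) * t = (t * a * t) * (t * b * t) := by
      calc t * (a * b) * t = t * a * 1 * b * t := by group
        _ = t * a * (t * t) * b * t := by rw [tt]
        _ = _ := by group
    rw [h5, h2, h4, mul_inv_rev, hab _ (N.inv_mem h1) _ (N.inv_mem h3)]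

/-- The structure of `N`. -/
theorem struct_N (I : Inst T t x) (C : CData T t x c) (hNT : N ≤ T) (hxN : x ∈ N) (hcN : c ∈ N)
    (hNt : ∀ g ∈ N, t * g * t ∈ N) (hab : ∀ a ∈ N, ∀ b ∈ N, a * b = b * a)
    (hn : n ∈ N) (hnt : t * n * t = n⁻¹) (hnφ : ∀ h ∈ N, n ≠ (t * h * t)⁻¹ * h) :
    (∀ g ∈ N, t * g * t = g⁻¹ → g ∈ zpowers n) ∧ (∀ g ∈ N, g ∈ zpowers n ∨ c * g ∈ zpowers n) := by
  classical
  have hzz := sq_sq_z4 I.xo
  have hzi : (x * x)⁻¹ = x * x := inv_eq_of_mul_eq_one_left hzz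
  let W := invSub N t I.tt hNt hab
  have hWmem : ∀ g, g ∈ W ↔ g ∈ N ∧ t * g * t = g⁻¹ := fun g => Iff.rfl
  have hfixφ : ∀ h ∈ W, (t * h * t)⁻¹ * h = h * h := by
    intro h hh
    rw [hh.2, inv_inv]
  have hWp : IsPGroup 2 W := I.isP.to_le (fun g hg => hNT hg.1)
  have hcyc : IsCyclic W := by
    apply cyc_of_unique_inv hWp (fun a ha b hb => hab a ha.1 b hb.1)
    have key : ∀ u ∈ W, u * u = 1 → u ≠ 1 → u = x * x := by
      intro u hu h2 h1
      have h3 : u⁻¹ = u := inv_eq_of_mul_eq_one_left h2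
      have h4 : t * u * t = u := by rw [hu.2, h3]
      exact invol_z4 I.xo (I.fix u (hNT hu.1) h4) h2 h1
    intro u hu v hv hu2 hv2 hu1 hv1
    rw [key u hu hu2 hu1, key v hv hv2 hv1]
  have hnW : n ∈ W := ⟨hn, hnt⟩
  have hA : ∀ g ∈ N, t * g * t = g⁻¹ → g ∈ zpowers n := by
    obtain ⟨⟨w₀, hw₀⟩, hgen⟩ := hcyc
    obtain ⟨k, hk⟩ := hgen ⟨n, hnW⟩
    have hk' : w₀ ^ k = n := by simpa using congrArg Subtype.val hk
    obtain ⟨m, hm⟩ := order_two_pow I (hNT hw₀.1)
    have hkodd : k % 2 = 1 := by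
      by_contra hk2
      obtain ⟨j, rfl⟩ : ∃ j, k = 2 * j := ⟨k / 2, by omega⟩
      apply hnφ (w₀ ^ j) (W.zpow_mem hw₀ j).1
      rw [hfixφ _ (W.zpow_mem hw₀ j), ← hk', two_mul, zpow_add]
    have hw₀n : w₀ ∈ zpowers n := by
      rw [← hk']; exact mem_zpowers_odd hm hkodd
    intro g hg hgt
    obtain ⟨i, hi⟩ := hgen ⟨g, hg, hgt⟩
    have hi' : w₀ ^ i = g := by simpa using congrArg Subtype.val hi
    rw [← hi']
    exact zpow_mem hw₀n i
  refine ⟨hA, ?_⟩
  -- the norm map
  have hσmul : ∀ a b : G, t * (a * b) * t = (t * a * t) * (t * b * t) := I.sigma_mul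
  have hνfix : ∀ g ∈ N, g * (t * g * t) ∈ zpowers x := by
    intro g hg
    apply I.fix _ (hNT (N.mul_mem hg (hNt g hg)))
    rw [hσmul, I.sigma_sigma]
    exact hab _ (hNt g hg) _ hg
  -- no element has norm a generator of `⟨x⟩`
  have hnorm : ∀ g ∈ N, g * (t * g * t) ≠ x ∧ g * (t * g * t) ≠ x⁻¹ := by
    -- counting
    let νh : N →* G := MonoidHom.mk' (fun g => (g : G) * (t * g * t)) (by
      intro a b
      show ((a : G) * b) * (t * ((a : G) * b) * t) = _
      rw [hσmul]
      have h1 := hab _ b.2 _ (hNt a a.2)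
      calc (a : G) * b * ((t * a * t) * (t * b * t))
          = a * (b * (t * a * t)) * (t * b * t) := by group
        _ = a * ((t * a * t) * b) * (t * b * t) := by rw [h1]
        _ = _ := by group)
    let φh : N →* G := MonoidHom.mk' (fun g => (t * g * t)⁻¹ * (g : G)) (by
      intro a b
      show (t * ((a : G) * b) * t)⁻¹ * ((a : G) * b) = _
      rw [hσmul]
      have h1 := hab _ (N.inv_mem (hNt a a.2)) _ (N.mul_mem (N.inv_mem (hNt b b.2)) (N.mul_mem a.2 b.2))
      have h2 := hab _ (N.inv_mem (hNt b b.2)) _ a.2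
      calc (t * a * t * (t * b * t))⁻¹ * ((a : G) * b)
          = (t * b * t)⁻¹ * (t * a * t)⁻¹ * (a * b) := by group
        _ = (t * a * t)⁻¹ * (t * b * t)⁻¹ * (a * b) := by
            rw [hab _ (N.inv_mem (hNt b b.2)) _ (N.inv_mem (hNt a a.2))]
        _ = (t * a * t)⁻¹ * ((t * b * t)⁻¹ * a) * b := by group
        _ = (t * a * t)⁻¹ * (a * (t * b * t)⁻¹) * b := by rw [h2]
        _ = _ := by group)
    have hkerφ : ∀ g : N, g ∈ φh.ker ↔ (g : G) ∈ zpowers x := by
      intro g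
      rw [MonoidHom.mem_ker]
      show (t * (g : G) * t)⁻¹ * g = 1 ↔ _
      constructor
      · intro h
        apply I.fix _ (hNT g.2)
        rw [inv_mul_eq_one] at h
        exact h
      · rintro ⟨k, hk⟩
        have h3 : t * (g : G) * t = g := by
          rw [← hk]
          show t * x ^ k * t = x ^ k
          rw [I.sigma_zpow, I.tx]
        rw [h3]; simp
    have hcardker : Nat.card φh.ker = 4 := by
      have h1 : (φh.ker).map N.subtype = zpowers x := by
        ext y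
        constructor
        · rintro ⟨g, hg, rfl⟩
          exact (hkerφ g).1 hg
        · intro hy
          have hyN : y ∈ N := (zpowers_le.mpr hxN) hy
          exact ⟨⟨y, hyN⟩, (hkerφ _).2 hy, rfl⟩
      have h2 : Nat.card ((φh.ker).map N.subtype) = Nat.card φh.ker :=
        Nat.card_congr (Subgroup.equivMapOfInjective _ _ N.subtype_injective).symm.toEquiv
      rw [← h2, h1, Nat.card_zpowers, I.xo]
    intro g₀ hg₀
    by_contra hcon
    have hgen : (νh.range : Subgroup G) = zpowers x := by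
      apply le_antisymm
      · rintro _ ⟨g, rfl⟩
        exact hνfix g g.2
      · have hx' : x ∈ νh.range := by
          by_cases h1 : g₀ * (t * g₀ * t) = x
          · exact ⟨⟨g₀, hg₀⟩, h1⟩
          · have h2 : g₀ * (t * g₀ * t) = x⁻¹ := by
              by_contra h2
              exact hcon ⟨h1, h2⟩
            refine ⟨(⟨g₀, hg₀⟩ : N)⁻¹, ?_⟩
            rw [map_inv]
            show ((g₀ * (t * g₀ * t)))⁻¹ = x
            rw [h2, inv_inv]
        exact zpowers_le.mpr hx'
    have hc1 : Nat.card νh.ker * 4 = Nat.card N := by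
      have h1 := Subgroup.card_mul_index νh.ker
      rw [Subgroup.index_ker, hgen, Nat.card_zpowers, I.xo] at h1
      exact h1
    have hc2 : Nat.card φh.range * 4 = Nat.card N := by
      have h1 := Subgroup.card_mul_index φh.ker
      rw [Subgroup.index_ker, hcardker] at h1
      rw [mul_comm]; exact h1
    have hle : φh.range ≤ (νh.ker).map N.subtype := by
      rintro _ ⟨g, rfl⟩
      have hgN : (t * (g : G) * t)⁻¹ * g ∈ N := N.mul_mem (N.inv_mem (hNt g g.2)) g.2
      refine ⟨⟨_, hgN⟩, ?_, rfl⟩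
      change _ ∈ νh.ker
      rw [MonoidHom.mem_ker]
      show ((t * (g : G) * t)⁻¹ * g) * (t * ((t * (g : G) * t)⁻¹ * g) * t) = 1
      rw [hσmul, I.sigma_inv, I.sigma_sigma]
      group
    have hRK : φh.range = (νh.ker).map N.subtype := by
      apply Subgroup.eq_of_le_of_card_ge hle
      have h2 : Nat.card ((νh.ker).map N.subtype) = Nat.card νh.ker :=
        Nat.card_congr (Subgroup.equivMapOfInjective _ _ N.subtype_injective).symm.toEquiv
      rw [h2]
      omega
    have hnk : n ∈ (νh.ker).map N.subtype := by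
      refine ⟨⟨n, hn⟩, ?_, rfl⟩
      change _ ∈ νh.ker
      rw [MonoidHom.mem_ker]
      show n * (t * n * t) = 1
      rw [hnt]; simp
    rw [← hRK] at hnk
    obtain ⟨h, hh⟩ := hnk
    exact hnφ h h.2 hh.symm
  intro g hg
  have hfixed := hνfix g hg
  have hcc : c * (t * c * t) = x * x := by
    rw [C.sig, ← mul_assoc, C.cc, one_mul]
  rcases mem_z4 I.xo hfixed with h | h | h | h
  · left
    apply hA g hg
    exact (inv_eq_of_mul_eq_one_right h).symm
  · exact absurd h (hnorm g hg).1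
  · right
    apply hA _ (N.mul_mem hcN hg)
    apply (inv_eq_of_mul_eq_one_right _).symm
    rw [hσmul]
    have h3 := hab _ (hNt c hcN) _ hg
    calc c * g * ((t * c * t) * (t * g * t)) = c * (g * (t * c * t)) * (t * g * t) := by group
      _ = c * ((t * c * t) * g) * (t * g * t) := by rw [h3]
      _ = (c * (t * c * t)) * (g * (t * g * t)) := by group
      _ = 1 := by rw [hcc, h, hzz]
  · exact absurd h (hnorm g hg).2

end Cfsg.Agent.Lib.InvZ4.AbN
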