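import Cfsg.Agent.Lib.InvZ4.AbN

/-!
# One step above a maximal invariant abelian subgroup
-/

set_option autoImplicit false
set_option linter.unusedSectionVars false
set_option linter.unusedVariables false

namespace Cfsg.Agent.Lib.InvZ4.AbP

open Subgroup Cfsg.Agent.Lib.InvZ4.Grow Cfsg.Agent.Lib.InvZ4.Cases Cfsg.Agent.Lib.InvZ4.AbN

variable {G : Type*} [Group G] [Finite G] {T N : Subgroup G} {t x c w e : G}

structure BD (T N : Subgroup G) (t x c w e : G) : Prop where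
  I : Inst T t x
  C : CData T t x c
  NT : N ≤ T
  xN : x ∈ N
  cN : c ∈ N
  Nt : ∀ g ∈ N, t * g * t ∈ N
  Nab : ∀ a ∈ N, ∀ b ∈ N, a * b = b * a
  wN : w ∈ N
  ws : t * w * t = w⁻¹
  invw : ∀ g ∈ N, t * g * t = g⁻¹ → g ∈ zpowers w
  gen : ∀ g ∈ N, g ∈ zpowers w ∨ c * g ∈ zpowers w
  wφ : ∀ h ∈ N, w ≠ (t * h * t)⁻¹ * h
  eT : e ∈ T
  eN : e ∉ N
  ec : ∀ r ∈ N, e⁻¹ * r * e ∈ N
  ec' : ∀ r ∈ N, e * r * e⁻¹ ∈ N
  es : t * e * t = e * w⁻¹

namespace BD

variable (D : BD T N t x c w e)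
include D

theorem zz : (x * x) * (x * x) = 1 := sq_sq_z4 D.I.xo

theorem zinv : (x * x)⁻¹ = x * x := inv_eq_of_mul_eq_one_left D.zz

theorem zN : x * x ∈ N := N.mul_mem D.xN D.xN

theorem zs : t * (x * x) * t = x * x := by
  rw [D.I.sigma_mul, D.I.tx]

theorem powN : zpowers w ≤ N := zpowers_le.mpr D.wN

theorem pows {y : G} (hy : y ∈ zpowers w) : t * y * t = y⁻¹ := by
  obtain ⟨k, rfl⟩ := hy
  show t * w ^ k * t = (w ^ k)⁻¹
  rw [D.I.sigma_zpow, D.ws, inv_zpow]

theorem invol {y : G} (hy : y ∈ zpowers w) (h2 : y * y = 1) (h1 : y ≠ 1) : y = x * x := by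
  have h3 : y⁻¹ = y := inv_eq_of_mul_eq_one_left h2
  have h4 : t * y * t = y := by rw [D.pows hy, h3]
  exact invol_z4 D.I.xo (D.I.fix y (D.NT (D.powN hy)) h4) h2 h1

theorem zw : x * x ∈ zpowers w := by
  apply D.invw _ D.zN
  rw [D.zs, D.zinv]

theorem phic : (t * c * t)⁻¹ * c = x * x := by
  rw [D.C.sig, mul_inv_rev, inv_mul_cancel_right, D.zinv]

theorem w1 : w ≠ 1 := by
  have := D.wφ 1 N.one_mem
  simpa [D.I.tt] using this

theorem w2 : w * w ≠ 1 := by
  intro h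
  have h3 := D.invol (mem_zpowers w) h D.w1
  apply D.wφ c D.cN
  rw [D.phic, h3]

theorem ord : ∃ m : ℕ, orderOf w = 2 ^ (m + 2) := by
  obtain ⟨m, hm⟩ := order_two_pow D.I (D.NT D.wN)
  have h2 : m ≠ 0 := by
    rintro rfl
    apply D.w1
    rw [pow_zero] at hm
    exact orderOf_eq_one_iff.mp hm
  have h3 : m ≠ 1 := by
    rintro rfl
    apply D.w2
    have : w ^ (2 ^ 1) = 1 := by rw [← hm]; exact pow_orderOf_eq_one w
    rw [← sq]
    simpa using this
  obtain ⟨m', rfl⟩ : ∃ m', m = m' + 2 := ⟨m - 2, by omega⟩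
  exact ⟨m', hm⟩

/-- `z` is an even power of `w`, the square of an element of order four of `⟨w⟩`. -/
theorem zeven : ∃ r : ℤ, x * x = w ^ (2 * r) := by
  obtain ⟨m, hm⟩ := D.ord
  refine ⟨(2 : ℤ) ^ m, ?_⟩
  symm
  have h1 : w ^ (2 * (2 : ℤ) ^ m) = w ^ (2 ^ (m + 1) : ℕ) := by
    rw [← zpow_natCast]
    congr 1
    push_cast
    ring
  rw [h1]
  apply D.invol (pow_mem (mem_zpowers w) _)
  · rw [← pow_add, ← two_mul, ← pow_succ', ← hm]
    exact pow_orderOf_eq_one w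
  · intro h
    have h2 := orderOf_dvd_of_pow_eq_one h
    rw [hm] at h2
    have h3 := Nat.pow_dvd_pow_iff_le_right (x := 2) (by norm_num) |>.mp h2
    omega

theorem hcw (k : ℤ) : c * w ^ k = w ^ k * c :=
  D.Nab _ D.cN _ (D.powN (zpow_mem (mem_zpowers w) k))

theorem hcw' {y : G} (hy : y ∈ zpowers w) : c * y = y * c :=
  D.Nab _ D.cN _ (D.powN hy)

theorem eis : t * e⁻¹ * t = w * e⁻¹ := by
  rw [D.I.sigma_inv, D.es]
  group

theorem conj_w {y : G} (hy : y ∈ zpowers w) : e⁻¹ * y * e ∈ zpowers w := by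
  have hyN := D.powN hy
  apply D.invw _ (D.ec y hyN)
  rw [D.I.sigma_mul, D.I.sigma_mul, D.eis, D.pows hy, D.es]
  have h1 : e⁻¹ * y⁻¹ * e ∈ N := D.ec _ (N.inv_mem hyN)
  have h2 := D.Nab _ D.wN _ h1
  calc w * e⁻¹ * y⁻¹ * (e * w⁻¹) = w * (e⁻¹ * y⁻¹ * e) * w⁻¹ := by group
    _ = (e⁻¹ * y⁻¹ * e) * w * w⁻¹ := by rw [h2]
    _ = _ := by group

theorem conj_w' {y : G} (hy : y ∈ zpowers w) : e * y * e⁻¹ ∈ zpowers w := by
  have hyN := D.powN hy
  apply D.invw _ (D.ec' y hyN)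
  rw [D.I.sigma_mul, D.I.sigma_mul, D.eis, D.pows hy, D.es]
  have h2 := D.Nab _ (N.inv_mem D.wN) _ (N.inv_mem hyN)
  calc e * w⁻¹ * y⁻¹ * (w * e⁻¹) = e * (w⁻¹ * y⁻¹) * w * e⁻¹ := by group
    _ = e * (y⁻¹ * w⁻¹) * w * e⁻¹ := by rw [h2]
    _ = _ := by group

theorem expa : ∃ a : ℤ, e⁻¹ * w * e = w ^ a ∧ a % 2 = 1 := by
  obtain ⟨a, ha⟩ := D.conj_w (mem_zpowers w)
  have ha' : e⁻¹ * w * e = w ^ a := ha.symm
  refine ⟨a, ha', ?_⟩
  by_contra hodd
  obtain ⟨b, rfl⟩ : ∃ b, a = 2 * b := ⟨a / 2, by omega⟩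
  obtain ⟨s, hs⟩ := D.conj_w' (zpow_mem (mem_zpowers w) b)
  have hs' : e * w ^ b * e⁻¹ = w ^ s := hs.symm
  have h1 : w = (e * w ^ b * e⁻¹) ^ 2 := by
    have h5 : (e * w ^ b * e⁻¹) ^ 2 = e * (w ^ (2 * b)) * e⁻¹ := by
      rw [sq, two_mul, zpow_add]
      group
    rw [h5, ← ha']
    group
  rw [hs', ← zpow_natCast, ← zpow_mul] at h1
  have h2 : w ^ (s * ((2 : ℕ) : ℤ) - 1) = 1 := by
    rw [zpow_sub, ← h1, zpow_one, mul_inv_cancel]
  obtain ⟨m, hm⟩ := D.ord
  have h3 := orderOf_dvd_iff_zpow_eq_one.mpr h2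
  rw [hm] at h3
  have h4 : (2 : ℤ) ∣ s * ((2 : ℕ) : ℤ) - 1 := by
    refine dvd_trans ?_ h3
    push_cast
    rw [pow_succ, pow_succ]
    exact ⟨2 ^ m * 2, by ring⟩
  push_cast at h4
  omega

theorem conj_zpow_e {a : ℤ} (ha : e⁻¹ * w * e = w ^ a) (k : ℤ) : e⁻¹ * w ^ k * e = w ^ (a * k) := by
  have h1 : e⁻¹ * w ^ k * e = (e⁻¹ * w * e) ^ k := by
    have := conj_zpow (a := e⁻¹) (b := w) (i := k)
    simpa using this.symm
  rw [h1, ha, zpow_mul]

theorem zconj : e⁻¹ * (x * x) * e = x * x := by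
  apply D.invol (D.conj_w D.zw)
  · calc e⁻¹ * (x * x) * e * (e⁻¹ * (x * x) * e) = e⁻¹ * ((x * x) * (x * x)) * e := by group
      _ = 1 := by rw [D.zz]; group
  · intro h
    apply sq_ne_one_z4 D.I.xo
    have : x * x = e * (e⁻¹ * (x * x) * e) * e⁻¹ := by group
    rw [this, h]
    group

theorem zcomm_e : e * (x * x) = (x * x) * e := by
  have h := D.zconj
  calc e * (x * x) = e * (e⁻¹ * (x * x) * e) := by rw [h]
    _ = (x * x) * e := by group

theorem cprime : e⁻¹ * c * e = c ∨ e⁻¹ * c * e = c * (x * x) := by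
  have hcN' := D.ec c D.cN
  have hz := D.zconj
  have hcc := D.C.cc
  have hci : c⁻¹ = c := inv_eq_of_mul_eq_one_left hcc
  have hs1 : t * (e⁻¹ * c * e) * t = e⁻¹ * c * e * (x * x) := by
    rw [D.I.sigma_mul, D.I.sigma_mul, D.eis, D.C.sig, D.es]
    have h1 : e⁻¹ * (c * (x * x)) * e ∈ N := D.ec _ (N.mul_mem D.cN D.zN)
    have h2 := D.Nab _ D.wN _ h1
    calc w * e⁻¹ * (c * (x * x)) * (e * w⁻¹) = w * (e⁻¹ * (c * (x * x)) * e) * w⁻¹ := by group
      _ = (e⁻¹ * (c * (x * x)) * e) * w * w⁻¹ := by rw [h2]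
      _ = e⁻¹ * c * e * (e⁻¹ * (x * x) * e) := by group
      _ = _ := by rw [hz]
  set c' := e⁻¹ * c * e with hc'
  have hc'c' : c' * c' = 1 := by
    rw [hc']
    calc e⁻¹ * c * e * (e⁻¹ * c * e) = e⁻¹ * (c * c) * e := by group
      _ = 1 := by rw [hcc]; group
  have hc'i : c'⁻¹ = c' := inv_eq_of_mul_eq_one_left hc'c'
  have hmem : c' * c ∈ zpowers w := by
    apply D.invw _ (N.mul_mem hcN' D.cN)
    rw [D.I.sigma_mul, hs1, D.C.sig, mul_inv_rev, hci, hc'i]
    have h3 := D.Nab _ D.cN _ D.zN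
    have h4 := D.Nab _ hcN' _ D.cN
    calc c' * (x * x) * (c * (x * x)) = c' * ((x * x) * c) * (x * x) := by group
      _ = c' * (c * (x * x)) * (x * x) := by rw [h3]
      _ = c' * c * ((x * x) * (x * x)) := by group
      _ = c' * c := by rw [D.zz, mul_one]
      _ = c * c' := h4
  have h2 : (c' * c) * (c' * c) = 1 := by
    have h4 := D.Nab _ hcN' _ D.cN
    calc c' * c * (c' * c) = c' * (c * c') * c := by group
      _ = c' * (c' * c) * c := by rw [h4]
      _ = (c' * c') * (c * c) := by group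
      _ = 1 := by rw [hc'c', hcc, one_mul]
  by_cases h1 : c' * c = 1
  · left
    have := mul_eq_one_iff_eq_inv.mp h1
    rw [this, hci]
  · right
    have h3 := D.invol hmem h2 h1
    have h4 : c' = (c' * c) * c := by
      rw [mul_assoc, hcc, mul_one]
    rw [h4, h3]
    exact D.Nab _ D.zN _ D.cN

theorem ee : e * e ∈ N := by
  obtain ⟨a, ha, hodd⟩ := D.expa
  obtain ⟨b, hb⟩ : ∃ b, a + 1 = 2 * b := ⟨(a + 1) / 2, by omega⟩
  have hconj : e⁻¹ * w⁻¹ * e = w ^ (-a) := by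
    have := D.conj_zpow_e ha (-1)
    simpa using this
  set h := w ^ b with hh
  have hhm : h ∈ zpowers w := zpow_mem (mem_zpowers w) b
  have hs : t * (e * e) * t = e * e * (h⁻¹ * h⁻¹) := by
    rw [D.I.sigma_mul, D.es]
    calc e * w⁻¹ * (e * w⁻¹) = e * e * (e⁻¹ * w⁻¹ * e) * w⁻¹ := by group
      _ = e * e * (w ^ (-a) * w⁻¹) := by rw [hconj]; group
      _ = _ := by
        congr 1
        rw [hh, ← zpow_neg_one, ← zpow_add, ← zpow_neg, ← zpow_add]
        congr 1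
        linarith
  have hf : t * (e * e * h⁻¹) * t = e * e * h⁻¹ := by
    rw [D.I.sigma_mul, hs, D.I.sigma_inv, D.pows hhm, inv_inv]
    group
  have hT : e * e * h⁻¹ ∈ T :=
    T.mul_mem (T.mul_mem D.eT D.eT) (T.inv_mem (D.NT (D.powN hhm)))
  have h1 := D.I.fix _ hT hf
  have h2 : e * e * h⁻¹ ∈ N := (zpowers_le.mpr D.xN) h1
  have h3 := N.mul_mem h2 (D.powN hhm)
  simpa using h3

/-- `P = N ∪ eN`. -/
def P (D : BD T N t x c w e) : Subgroup G := ext2 N e D.ec D.ee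

theorem P_mem {g : G} : g ∈ D.P ↔ g ∈ N ∨ e⁻¹ * g ∈ N := Iff.rfl

theorem P_le : D.P ≤ T := by
  rintro g (hg | hg)
  · exact D.NT hg
  · have := T.mul_mem D.eT (D.NT hg)
    simpa using this

theorem P_sigma : ∀ g ∈ D.P, t * g * t ∈ D.P := by
  rintro g (hg | hg)
  · exact Or.inl (D.Nt g hg)
  · right
    have h1 : t * g * t = e * w⁻¹ * (t * (e⁻¹ * g) * t) := by
      rw [← D.es, ← D.I.sigma_mul]
      group
    rw [h1]
    have h2 := N.mul_mem (N.inv_mem D.wN) (D.Nt _ hg)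
    convert h2 using 1
    group

theorem z1 : x * x ≠ 1 := sq_ne_one_z4 D.I.xo

theorem c_nw : c ∉ zpowers w := by
  intro h
  have h1 := D.pows h
  rw [D.C.sig, inv_eq_of_mul_eq_one_left D.C.cc] at h1
  apply D.z1
  have : c * (x * x) = c * 1 := by rw [h1, mul_one]
  exact mul_left_cancel this

theorem x_nw : x ∉ zpowers w := by
  intro h
  have h1 := D.pows h
  rw [D.I.tx] at h1
  apply D.z1
  nth_rw 1 [h1]
  simp

theorem cx_w : c * x ∈ zpowers w := by
  rcases D.gen x D.xN with h | h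
  · exact absurd h D.x_nw
  · exact h

theorem zcomm_N {g : G} (hg : g ∈ N) : g * (x * x) = (x * x) * g := D.Nab _ hg _ D.zN

/-- The exponent of `e²` when `e g` is inverted. -/
theorem key_odd {g : G} (hg : g ∈ N) (h : t * (e * g) * t = (e * g)⁻¹) :
    ∃ i : ℤ, e * e = w ^ i ∧ i % 2 = 1 := by
  have h1 : e * w⁻¹ * (t * g * t) = g⁻¹ * e⁻¹ := by
    rw [D.I.sigma_mul, D.es] at h
    rw [h]
    group
  have h2 : e * e = (t * g * t)⁻¹ * w * (e⁻¹ * g * e)⁻¹ := by
    calc e * e = (t * g * t)⁻¹ * w * e⁻¹ * (e * w⁻¹ * (t * g * t)) * e * e := by group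
      _ = (t * g * t)⁻¹ * w * e⁻¹ * (g⁻¹ * e⁻¹) * e * e := by rw [h1]
      _ = _ := by group
  obtain ⟨a, ha, hodd⟩ := D.expa
  obtain ⟨b, rfl⟩ : ∃ b, a = 2 * b + 1 := ⟨a / 2, by omega⟩
  obtain ⟨r, hr⟩ := D.zeven
  rcases D.gen g hg with hgw | hgw
  · have hp := D.pows hgw
    obtain ⟨j, hj⟩ := hgw
    have hj' : g = w ^ j := hj.symm
    refine ⟨1 - 2 * (b * j), ?_, by omega⟩
    rw [h2, hp, inv_inv, hj', D.conj_zpow_e ha j, ← zpow_neg, ← zpow_add_one, ← zpow_add]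
    congr 1
    ring
  · obtain ⟨j, hj⟩ := hgw
    have hj' : c * g = w ^ j := hj.symm
    have hgc : g = c * w ^ j := by
      rw [← hj', ← mul_assoc, D.C.cc, one_mul]
    have hci : c⁻¹ = c := inv_eq_of_mul_eq_one_left D.C.cc
    have hσ : (t * g * t)⁻¹ = w ^ j * ((x * x) * c) := by
      rw [hgc, D.I.sigma_mul, D.C.sig, D.I.sigma_zpow, D.ws, inv_zpow, mul_inv_rev, mul_inv_rev,
        inv_inv, D.zinv, hci]
    have hconj : e⁻¹ * g * e = (e⁻¹ * c * e) * w ^ ((2 * b + 1) * j) := by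
      rw [← D.conj_zpow_e ha j, hgc]
      group
    rcases D.cprime with hc' | hc'
    · refine ⟨j + 2 * r + 1 - (2 * b + 1) * j, ?_, ?_⟩
      · rw [h2, hσ, hconj, hc', mul_inv_rev, hci, ← zpow_neg]
        have h3 : c * w ^ (1 : ℤ) = w ^ (1 : ℤ) * c := D.hcw 1
        rw [zpow_one] at h3
        have h4 := D.hcw (-((2 * b + 1) * j))
        calc w ^ j * (x * x * c) * w * (w ^ (-((2 * b + 1) * j)) * c)
            = w ^ j * (x * x) * (c * w) * (w ^ (-((2 * b + 1) * j)) * c) := by group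
          _ = w ^ j * (x * x) * w * (c * w ^ (-((2 * b + 1) * j))) * c := by rw [h3]; group
          _ = w ^ j * (x * x) * w * (w ^ (-((2 * b + 1) * j)) * c) * c := by rw [h4]
          _ = w ^ j * (x * x) * w * w ^ (-((2 * b + 1) * j)) * (c * c) := by group
          _ = w ^ j * w ^ (2 * r) * w ^ (1 : ℤ) * w ^ (-((2 * b + 1) * j)) := by
              rw [D.C.cc, hr]; group
          _ = _ := by
              rw [← zpow_add, ← zpow_add, ← zpow_add]
              congr 1 <;> ring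
      · have : j + 2 * r + 1 - (2 * b + 1) * j = 1 + 2 * (r - b * j) := by ring
        rw [this]
        omega
    · refine ⟨j + 1 - (2 * b + 1) * j, ?_, ?_⟩
      · rw [h2, hσ, hconj, hc', mul_inv_rev, mul_inv_rev, D.zinv, hci, ← zpow_neg]
        have h3 : c * w ^ (1 : ℤ) = w ^ (1 : ℤ) * c := D.hcw 1
        rw [zpow_one] at h3
        have h4 := D.hcw (-((2 * b + 1) * j))
        have h5 := D.Nab _ D.cN _ D.zN
        calc w ^ j * (x * x * c) * w * (w ^ (-((2 * b + 1) * j)) * (x * x * c))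
            = w ^ j * (x * x) * (c * w) * (w ^ (-((2 * b + 1) * j)) * (x * x * c)) := by group
          _ = w ^ j * (x * x) * w * (c * w ^ (-((2 * b + 1) * j))) * (x * x * c) := by rw [h3]; group
          _ = w ^ j * (x * x) * w * (w ^ (-((2 * b + 1) * j)) * c) * (x * x * c) := by rw [h4]
          _ = w ^ j * (x * x) * w * w ^ (-((2 * b + 1) * j)) * (c * (x * x)) * c := by group
          _ = w ^ j * (x * x) * w * w ^ (-((2 * b + 1) * j)) * ((x * x) * c) * c := by rw [h5]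
          _ = w ^ j * ((x * x) * w * w ^ (-((2 * b + 1) * j)) * (x * x)) * (c * c) := by group
          _ = w ^ j * ((x * x) * w ^ (1 - (2 * b + 1) * j) * (x * x)) := by
              rw [D.C.cc, mul_one]
              congr 2
              rw [show (1 - (2 * b + 1) * j : ℤ) = 1 + -((2 * b + 1) * j) by ring, zpow_add, zpow_one]
              group
          _ = w ^ j * (w ^ (1 - (2 * b + 1) * j) * ((x * x) * (x * x))) := by
              have h6 := D.Nab _ D.zN _ (D.powN (zpow_mem (mem_zpowers w) (1 - (2 * b + 1) * j)))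
              rw [h6]
              group
          _ = _ := by
              rw [D.zz, mul_one, ← zpow_add]
              congr 1
              ring
      · have : j + 1 - (2 * b + 1) * j = 1 + 2 * (- (b * j)) := by ring
        rw [this]
        omega

theorem comm_of_odd {i : ℤ} (he : e * e = w ^ i) (hi : i % 2 = 1) : e * w = w * e := by
  obtain ⟨m, hm⟩ := D.ord
  have h1 : w ∈ zpowers (e * e) := by
    rw [he]
    exact mem_zpowers_odd hm hi
  obtain ⟨k, hk⟩ := h1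
  have hk' : (e * e) ^ k = w := hk
  rw [← hk']
  have : Commute e (e * e) := (Commute.refl e).mul_right (Commute.refl e)
  exact (this.zpow_right k).eq

theorem conj_inv_of_comm (h : e * w = w * e) : e⁻¹ * w * e = w := by
  rw [mul_assoc, ← h]
  group

theorem comm_all (h : e * w = w * e) (hc : e⁻¹ * c * e = c) : ∀ g ∈ N, e * g = g * e := by
  have hec : e * c = c * e := by
    calc e * c = e * (e⁻¹ * c * e) := by rw [hc]
      _ = c * e := by group
  have hpow : ∀ y ∈ zpowers w, e * y = y * e := by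
    rintro _ ⟨k, rfl⟩
    exact ((show Commute e w from h).zpow_right k).eq
  intro g hg
  rcases D.gen g hg with h1 | h1
  · exact hpow g h1
  · have h2 : g = c * (c * g) := by rw [← mul_assoc, D.C.cc, one_mul]
    rw [h2]
    calc e * (c * (c * g)) = (e * c) * (c * g) := by group
      _ = (c * e) * (c * g) := by rw [hec]
      _ = c * (e * (c * g)) := by group
      _ = c * ((c * g) * e) := by rw [hpow _ h1]
      _ = _ := by group

theorem conj_c' (hc : e⁻¹ * c * e = c * (x * x)) : e * c * e⁻¹ = c * (x * x) := by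
  have hz := D.zcomm_e
  calc e * c * e⁻¹ = e * (e⁻¹ * c * e * (x * x)) * e⁻¹ := by
        rw [hc, mul_assoc c, D.zz, mul_one]
    _ = c * (e * (x * x)) * e⁻¹ := by group
    _ = c * ((x * x) * e) * e⁻¹ := by rw [hz]
    _ = _ := by group

/-- If `N` is not centralised by `e`, then `T = N ∪ eN`. -/
theorem P_top (hna : ¬ ∀ g ∈ N, e * g = g * e) : D.P = T := by
  by_contra hne
  obtain ⟨e₂, he₂T, he₂P, -, -, n₂, hn₂, hen, hnt, hnφ, hconj⟩ :=
    grow D.I D.P_le (le_ext2 D.xN) D.P_sigma hne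
  rcases hn₂ with hn₂ | hn₂
  · -- `n₂ = w ^ k`
    obtain ⟨k, hk⟩ := D.invw _ hn₂ hnt
    have hk' : n₂ = w ^ k := hk.symm
    rcases Int.emod_two_eq_zero_or_one k with h | h
    · obtain ⟨j, rfl⟩ : ∃ j, k = 2 * j := ⟨k / 2, by omega⟩
      apply hnφ (w ^ j) (le_ext2 (D.powN (zpow_mem (mem_zpowers w) j)))
      rw [D.pows (zpow_mem (mem_zpowers w) j), inv_inv, hk', two_mul, zpow_add]
    · obtain ⟨j, rfl⟩ : ∃ j, k = 2 * j + 1 := ⟨k / 2, by omega⟩
      have hm : e * w ^ j ∈ D.P := Or.inr (by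
        have := D.powN (zpow_mem (mem_zpowers w) j)
        simpa using this)
      apply hnφ _ hm
      rw [D.I.sigma_mul, D.es, D.pows (zpow_mem (mem_zpowers w) j), hk']
      have : (e * w⁻¹ * (w ^ j)⁻¹)⁻¹ * (e * w ^ j) = w ^ j * w * w ^ j := by group
      rw [this, zpow_add, zpow_one, two_mul, zpow_add]
      have h5 : Commute w (w ^ j) := (Commute.refl w).zpow_right j
      rw [mul_assoc (w ^ j) w, h5.eq]
      group
  · -- `n₂ = e g`
    set g := e⁻¹ * n₂ with hg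
    have hn₂g : n₂ = e * g := by rw [hg]; group
    rw [hn₂g] at hnt hen hnφ hconj
    obtain ⟨i, hi, hodd⟩ := D.key_odd hn₂ hnt
    have hew := D.comm_of_odd hi hodd
    rcases D.cprime with hc | hc
    · exact hna (D.comm_all hew hc)
    · -- `t n₂` commutes with `c` and `z`
      have hci : (e * g)⁻¹ = t * (e * g) * t := hnt.symm
      have hinv : (t * (e * g)) * (t * (e * g)) = 1 := by
        calc (t * (e * g)) * (t * (e * g)) = (t * (e * g) * t) * (e * g) := by group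
          _ = (e * g)⁻¹ * (e * g) := by rw [hnt]
          _ = 1 := by group
      have hconjr : ∀ r ∈ N, e * r * e⁻¹ ∈ N → (t * (e * g)) * r * (g⁻¹ * e⁻¹ * t) = t * (e * r * e⁻¹) * t := by
        intro r hr _
        have h6 : g * r = r * g := D.Nab _ hn₂ _ hr
        calc (t * (e * g)) * r * (g⁻¹ * e⁻¹ * t) = t * e * (g * r) * g⁻¹ * e⁻¹ * t := by group
          _ = t * e * (r * g) * g⁻¹ * e⁻¹ * t := by rw [h6]
          _ = _ := by group
      have hti : (t * (e * g))⁻¹ = g⁻¹ * e⁻¹ * t := by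
        rw [mul_inv_rev, mul_inv_rev, D.I.tinv]
      have hcomm : ∀ r ∈ N, t * (e * r * e⁻¹) * t = r → (t * (e * g)) * r = r * (t * (e * g)) := by
        intro r hr hfix
        have h7 := hconjr r hr (D.ec' r hr)
        rw [hfix, ← hti] at h7
        calc (t * (e * g)) * r = (t * (e * g)) * r * (t * (e * g))⁻¹ * (t * (e * g)) := by group
          _ = _ := by rw [h7]
      have hrP : ∀ r ∈ N, r ∈ D.P := fun r hr => Or.inl hr
      have hc1 : (t * (e * g)) * c = c * (t * (e * g)) := by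
        apply hcomm c D.cN
        rw [D.conj_c' hc, D.I.sigma_mul, D.C.sig, D.zs, mul_assoc, D.zz, mul_one]
      have hz1 : (t * (e * g)) * (x * x) = (x * x) * (t * (e * g)) := by
        apply hcomm _ D.zN
        have h8 := D.zcomm_e
        have h9 : e * (x * x) * e⁻¹ = x * x := by rw [h8]; group
        rw [h9, D.zs]
      have h10 := hconj c (hrP c D.cN) hc1
      have h11 := hconj _ (hrP _ D.zN) hz1
      have hinv2 : ∀ y : G, y * y = 1 → y ≠ 1 → e₂ * y * e₂⁻¹ ∈ zpowers x →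
          e₂ * y * e₂⁻¹ = x * x := by
        intro y hy hy1 hm
        apply invol_z4 D.I.xo hm
        · calc e₂ * y * e₂⁻¹ * (e₂ * y * e₂⁻¹) = e₂ * (y * y) * e₂⁻¹ := by group
            _ = 1 := by rw [hy]; group
        · intro h0
          apply hy1
          have : y = e₂⁻¹ * (e₂ * y * e₂⁻¹) * e₂ := by group
          rw [this, h0]
          group
      have hc1' : c ≠ 1 := by
        rintro rfl
        exact D.C.cx (one_mem _)
      have h12 := hinv2 c D.C.cc hc1' h10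
      have h13 := hinv2 _ D.zz D.z1 h11
      have h14 : e₂ * c * e₂⁻¹ = e₂ * (x * x) * e₂⁻¹ := by rw [h12, h13]
      have h15 : c = x * x := by
        have := congrArg (fun y => e₂⁻¹ * y * e₂) h14
        simpa [mul_assoc] using this
      apply D.C.cx
      rw [h15]
      exact mul_mem (mem_zpowers x) (mem_zpowers x)

end BD

/-- `T` has a cyclic normal subgroup with cyclic quotient of order at least `4`. -/
def QC (T : Subgroup G) : Prop :=
  ∃ b ∈ T, ∃ g₁ ∈ T, (∀ h ∈ T, h * b * h⁻¹ ∈ zpowers b) ∧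
    (∀ h ∈ T, ∃ k : ℤ, h * g₁ ^ k ∈ zpowers b) ∧ g₁ * g₁ ∉ zpowers b

/-- An index-two subgroup with `z` as only involution, missing `c`. -/
def O2 (T : Subgroup G) (c z : G) : Prop :=
  ∃ K : Subgroup G, K ≤ T ∧ c ∉ K ∧ (∀ g ∈ T, g ∈ K ∨ c * g ∈ K) ∧ ∀ k ∈ K, k * k = 1 → k = 1 ∨ k = z

/-- `c` is central and not a square, and `K` has only `z` as central involution. -/
def O3 (T : Subgroup G) (c z : G) : Prop :=
  (∀ g ∈ T, g * c = c * g) ∧ (∀ g ∈ T, g * g ≠ c) ∧
    ∃ K : Subgroup G, K ≤ T ∧ c ∉ K ∧ (∀ g ∈ T, g ∈ K ∨ c * g ∈ K) ∧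
      ∀ k ∈ K, (∀ g ∈ T, g * k = k * g) → k = 1 ∨ k = z

namespace BD

variable (D : BD T N t x c w e)
include D

theorem O2_of {e' : G} (he'T : e' ∈ T) (hzz : e' * e' = x * x)
    (hinv : ∀ y ∈ zpowers w, e'⁻¹ * y * e' = y⁻¹) (hc' : e'⁻¹ * c * e' = c * (x * x))
    (hcov : ∀ g ∈ T, g ∈ N ∨ e'⁻¹ * g ∈ N) : O2 T c (x * x) := by
  have h1 : ∀ n ∈ zpowers w, e'⁻¹ * n * e' ∈ zpowers w := by
    intro n hn
    rw [hinv n hn]
    exact inv_mem hn
  have h2 : e' * e' ∈ zpowers w := by rw [hzz]; exact D.zw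
  have hsq : ∀ y ∈ zpowers w, (e' * y) * (e' * y) = x * x := by
    intro y hy
    calc (e' * y) * (e' * y) = (e' * e') * (e'⁻¹ * y * e') * y := by group
      _ = x * x := by rw [hzz, hinv y hy]; group
  refine ⟨ext2 (zpowers w) e' h1 h2, ?_, ?_, ?_, ?_⟩
  · rintro g (hg | hg)
    · exact D.NT (D.powN hg)
    · have := T.mul_mem he'T (D.NT (D.powN hg))
      simpa using this
  · rintro (h | h)
    · exact D.c_nw h
    · have h3 := hsq _ h
      have h4 : e' * (e'⁻¹ * c) = c := by group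
      rw [h4, D.C.cc] at h3
      exact D.z1 h3.symm
  · intro g hg
    rcases hcov g hg with h | h
    · rcases D.gen g h with h3 | h3
      · exact Or.inl (Or.inl h3)
      · exact Or.inr (Or.inl h3)
    · rcases D.gen _ h with h3 | h3
      · exact Or.inl (Or.inr h3)
      · right
        right
        have h4 : e'⁻¹ * (c * g) = (x * x) * (c * (e'⁻¹ * g)) := by
          have h5 : e'⁻¹ * (c * g) = (e'⁻¹ * c * e') * (e'⁻¹ * g) := by group
          rw [h5, hc', ← D.Nab _ D.zN _ D.cN]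
          group
        rw [h4]
        exact mul_mem D.zw h3
  · rintro k (hk | hk) hkk
    · by_cases h1' : k = 1
      · exact Or.inl h1'
      · exact Or.inr (D.invol hk hkk h1')
    · exfalso
      have h3 := hsq _ hk
      have h4 : e' * (e'⁻¹ * k) = k := by group
      rw [h4, hkk] at h3
      exact D.z1 h3.symm

theorem even_case {a i : ℤ} (ha : e⁻¹ * w * e = w ^ a) (hodd : a % 2 = 1) (hi : e * e = w ^ i)
    (hie : i % 2 = 0) : (e * e) * (e * e) = 1 ∧ e⁻¹ * w * e = w⁻¹ := by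
  obtain ⟨m, hm⟩ := D.ord
  have hd : e * e ∈ zpowers w := ⟨i, hi.symm⟩
  have h1 : w ^ (2 * i - a - 1) = 1 := by
    have h2 := D.pows hd
    rw [D.I.sigma_mul, D.es] at h2
    have h3 : e * w⁻¹ * (e * w⁻¹) = (e * e) * (e⁻¹ * w⁻¹ * e) * w⁻¹ := by group
    have h4 : e⁻¹ * w⁻¹ * e = w ^ (-a) := by
      have := D.conj_zpow_e ha (-1)
      simpa using this
    rw [h3, h4, hi] at h2
    have h5 : w ^ i * w ^ (-a) * w⁻¹ = w ^ (i - a - 1) := by
      rw [← zpow_add, ← zpow_sub_one]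
      congr 1
    rw [h5, ← zpow_neg] at h2
    have h6 : w ^ (2 * i - a - 1) = w ^ (i - a - 1 - -i) := by
      congr 1; ring
    rw [h6, zpow_sub, h2, mul_inv_cancel]
  have h7 : w ^ ((a - 1) * i) = 1 := by
    have h8 : e⁻¹ * (e * e) * e = e * e := by group
    rw [hi, D.conj_zpow_e ha] at h8
    have h9 : w ^ ((a - 1) * i) = w ^ (a * i - i) := by congr 1; ring
    rw [h9, zpow_sub, h8, mul_inv_cancel]
  have hM1 := orderOf_dvd_iff_zpow_eq_one.mpr h1
  have hM2 := orderOf_dvd_iff_zpow_eq_one.mpr h7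
  rw [hm] at hM1 hM2
  push_cast at hM1 hM2
  have hM3 : ((2 : ℤ) ^ (m + 2)) ∣ (2 * i) * (i - 1) := by
    have h10 : (2 * i) * (i - 1) = (a - 1) * i + (2 * i - a - 1) * i := by ring
    rw [h10]
    exact dvd_add hM2 (hM1.mul_right i)
  have hcop : IsCoprime ((2 : ℤ) ^ (m + 2)) (i - 1) := by
    apply IsCoprime.pow_left
    rw [Int.isCoprime_iff_gcd_eq_one]
    have h11 : Int.gcd 2 (i - 1) ∣ 2 := by exact_mod_cast Int.gcd_dvd_left 2 (i - 1)
    have h12 : (Int.gcd 2 (i - 1) : ℤ) ∣ (i - 1) := Int.gcd_dvd_right 2 (i - 1)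
    rcases (Nat.dvd_prime Nat.prime_two).mp h11 with h | h
    · exact h
    · exfalso
      rw [h] at h12
      omega
  have hM4 : ((2 : ℤ) ^ (m + 2)) ∣ 2 * i := hcop.dvd_of_dvd_mul_right hM3
  have h13 : w ^ (2 * i) = 1 := by
    apply orderOf_dvd_iff_zpow_eq_one.mp
    rw [hm]
    push_cast
    exact hM4
  have h14 : w ^ (a + 1) = 1 := by
    have h15 : a + 1 = 2 * i - (2 * i - a - 1) := by ring
    rw [h15, zpow_sub, h13, h1]
    simp
  constructor
  · rw [hi, ← zpow_add, ← two_mul, h13]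
  · rw [ha]
    rw [zpow_add_one] at h14
    exact eq_inv_of_mul_eq_one_left h14

end BD

end Cfsg.Agent.Lib.InvZ4.AbP

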