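import Cfsg.Agent.Lib.InvZ4.Grow
import Cfsg.Agent.S0016

/-!
# The first dichotomy for an involution on a `2`-group with fixed points `ℤ/4`
-/

set_option autoImplicit false
set_option linter.unusedSectionVars false
set_option linter.unusedVariables false

namespace Cfsg.Agent.Lib.InvZ4.Cases

open Subgroup Cfsg.Agent.Lib.InvZ4.Grow

variable {G : Type*} [Group G] [Finite G]

/-- An abelian `2`-subgroup with a unique involution is cyclic. -/
theorem cyc_of_unique_inv {W : Subgroup G} (hp : IsPGroup 2 W)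
    (hab : ∀ a ∈ W, ∀ b ∈ W, a * b = b * a)
    (huniq : ∀ u ∈ W, ∀ v ∈ W, u * u = 1 → v * v = 1 → u ≠ 1 → v ≠ 1 → u = v) : IsCyclic W := by
  haveI : Fact (Nat.Prime 2) := ⟨Nat.prime_two⟩
  have key : ∀ H : Subgroup W, Nat.card H = 2 → ∃ h : W, h ≠ 1 ∧ (h : G) * h = 1 ∧ H = zpowers h := by
    intro H hH
    rcases H.bot_or_exists_ne_one with rfl | ⟨h, hh, h1⟩
    · simp at hH
    · have h2 : h ^ 2 = 1 := by
        have h3 : (⟨h, hh⟩ : H) ^ Nat.card H = 1 := pow_card_eq_one'
        rw [hH] at h3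
        simpa using congrArg Subtype.val h3
      have ho : orderOf h = 2 := orderOf_eq_prime h2 h1
      refine ⟨h, h1, ?_, ?_⟩
      · have := congrArg (Subtype.val) h2
        simpa [sq] using this
      · symm
        apply Subgroup.eq_of_le_of_card_ge (zpowers_le.mpr hh)
        rw [hH, Nat.card_zpowers, ho]
  have h := Cfsg.Agent.S0016.result (G := W) 2 hp (by
    intro H K hH hK
    obtain ⟨h, h1, h2, rfl⟩ := key H hH
    obtain ⟨k, k1, k2, rfl⟩ := key K hK
    have : (h : G) = k := huniq _ h.2 _ k.2 h2 k2 (by simpa using h1) (by simpa using k1)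
    rw [Subtype.ext this])
  rcases h with h | ⟨-, n, ⟨e⟩⟩
  · exact h
  · by_cases hn : n = 0
    · subst hn
      haveI : IsCyclic (QuaternionGroup (2 ^ 0)) := QuaternionGroup.quaternionGroup_one_isCyclic
      exact isCyclic_of_surjective e.symm e.symm.surjective
    · exfalso
      have h1 := hab _ (e.symm (QuaternionGroup.a 1)).2 _ (e.symm (QuaternionGroup.xa 0)).2
      have h2 : e.symm (QuaternionGroup.a 1) * e.symm (QuaternionGroup.xa 0) =
          e.symm (QuaternionGroup.xa 0) * e.symm (QuaternionGroup.a 1) := Subtype.ext h1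
      rw [← map_mul, ← map_mul] at h2
      have h3 := e.symm.injective h2
      simp only [QuaternionGroup.a_mul_xa, QuaternionGroup.xa_mul_a, QuaternionGroup.xa.injEq] at h3
      have h4 : ((2 : ℕ) : ZMod (2 * 2 ^ n)) = 0 := by
        push_cast
        linear_combination (-1 : ZMod (2 * 2 ^ n)) * h3
      rw [ZMod.natCast_eq_zero_iff] at h4
      have h5 := Nat.le_of_dvd (by norm_num) h4
      have h6 : 2 ≤ 2 ^ n := by
        calc 2 = 2 ^ 1 := rfl
          _ ≤ 2 ^ n := Nat.pow_le_pow_right (by norm_num) (by omega)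
      omega

variable {T : Subgroup G} {t x : G}

/-- The cyclic case of order eight. -/
theorem z8_top (I : Inst T t x) {u : G} (huT : u ∈ T) (hu : u * u = x ∨ u * u = x⁻¹)
    (hs : t * u * t = u * (x * x)) : T = zpowers u := by
  have hzz := sq_sq_z4 I.xo
  have hxu : x ∈ zpowers u := by
    rcases hu with h | h
    · rw [← h]; exact mul_mem (mem_zpowers u) (mem_zpowers u)
    · have : x = (u * u)⁻¹ := by rw [h, inv_inv]
      rw [this]; exact inv_mem (mul_mem (mem_zpowers u) (mem_zpowers u))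
  have hz : x * x = u * u * (u * u) := by
    rcases hu with h | h
    · rw [h]
    · rw [h]
      have : x⁻¹ * x⁻¹ = (x * x)⁻¹ := by group
      rw [this, inv_eq_of_mul_eq_one_left hzz]
  have hRt : ∀ r ∈ zpowers u, t * r * t ∈ zpowers u := by
    rintro _ ⟨k, rfl⟩
    show t * u ^ k * t ∈ _
    rw [I.sigma_zpow, hs]
    apply zpow_mem
    exact mul_mem (mem_zpowers u) (mul_mem hxu hxu)
  by_contra hne
  obtain ⟨e, heT, heR, -, -, n, hn, -, hnt, hnφ, -⟩ :=
    grow I (zpowers_le.mpr huT) hxu hRt (Ne.symm hne)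
  obtain ⟨k, rfl⟩ := hn
  have h8 : u ^ (8 : ℕ) = 1 := by
    have : u ^ (8 : ℕ) = (x * x) * (x * x) := by
      rw [hz]; simp only [pow_succ, pow_zero, one_mul, mul_assoc]
    rw [this, hzz]
  have hz' : x * x = u ^ (4 : ℤ) := by
    rw [hz]
    show _ = u ^ ((4 : ℕ) : ℤ)
    rw [zpow_natCast]; simp only [pow_succ, pow_zero, one_mul, mul_assoc]
  have h4 : u ^ (4 : ℤ) ≠ 1 := by
    rw [← hz']; exact sq_ne_one_z4 I.xo
  have ho : orderOf u = 8 := by
    have : orderOf u = 2 ^ (2 + 1) := by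
      apply orderOf_eq_prime_pow
      · intro h
        apply h4
        have h5 : u ^ (2 ^ 2 : ℕ) = 1 := h
        exact_mod_cast h5
      · exact h8
    rw [this]; rfl
  -- the exponent
  have hk : u ^ (6 * k) = 1 := by
    have h5 : t * u ^ k * t = (u ^ k)⁻¹ := hnt
    rw [I.sigma_zpow, hs, hz'] at h5
    have h6 : (u * u ^ (4 : ℤ)) ^ k = u ^ (5 * k) := by
      rw [zpow_mul]
      congr 1
      rw [show (5 : ℤ) = 1 + 4 by norm_num, zpow_add, zpow_one]
    rw [h6, ← zpow_neg] at h5
    have h7 : u ^ (5 * k - -k) = 1 := by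
      rw [zpow_sub, h5, mul_inv_cancel]
    rw [← h7]; congr 1; ring
  have hd : (8 : ℤ) ∣ 6 * k := by
    have := orderOf_dvd_iff_zpow_eq_one.mpr hk
    rw [ho] at this
    exact_mod_cast this
  obtain ⟨j, hj⟩ : (4 : ℤ) ∣ k := by omega
  have hcases : u ^ k = 1 ∨ u ^ k = x * x := by
    rw [hj, zpow_mul, ← hz']
    rcases Int.emod_two_eq_zero_or_one j with h | h
    · left
      obtain ⟨i, rfl⟩ : ∃ i, j = 2 * i := ⟨j / 2, by omega⟩
      rw [zpow_mul, zpow_two, hzz, one_zpow]
    · right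
      obtain ⟨i, rfl⟩ : ∃ i, j = 2 * i + 1 := ⟨j / 2, by omega⟩
      rw [zpow_add, zpow_mul, zpow_two, hzz, one_zpow, one_mul, zpow_one]
  rcases hcases with h | h
  · apply hnφ 1 (one_mem _)
    show u ^ k = _
    rw [h]; simp [I.tt]
  · apply hnφ u (mem_zpowers u)
    show u ^ k = _
    rw [h, hs, mul_inv_rev, inv_mul_cancel_right, inv_eq_of_mul_eq_one_left hzz]

/-- The dihedral case of order eight. -/
theorem d8_top (I : Inst T t x) {e : G} (heT : e ∈ T) (he : e * e = 1) (hc : e * x * e⁻¹ = x⁻¹)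
    (hs : t * e * t = e * (x * x)) (hex : e ∉ zpowers x) :
    ∀ g ∈ T, g ∈ zpowers x ∨ e * g ∈ zpowers x := by
  have hzz := sq_sq_z4 I.xo
  have hei : e⁻¹ = e := inv_eq_of_mul_eq_one_left he
  have hconj : ∀ y ∈ zpowers x, e * y * e = y⁻¹ := by
    rintro _ ⟨k, rfl⟩
    show e * x ^ k * e = (x ^ k)⁻¹
    have h1 : e * x ^ k * e⁻¹ = (e * x * e⁻¹) ^ k := by rw [conj_zpow]
    rw [hei] at h1 hc
    rw [h1, hc, inv_zpow]
  have h1 : ∀ n ∈ zpowers x, e⁻¹ * n * e ∈ zpowers x := by
    intro n hn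
    rw [hei, hconj n hn]; exact inv_mem hn
  have h2 : e * e ∈ zpowers x := by rw [he]; exact one_mem _
  let R := ext2 (zpowers x) e h1 h2
  have hst : ∀ r ∈ zpowers x, t * r * t = r := by
    rintro _ ⟨k, rfl⟩
    show t * x ^ k * t = x ^ k
    rw [I.sigma_zpow, I.tx]
  have hRT : R ≤ T := by
    rintro g (hg | hg)
    · exact (zpowers_le.mpr I.xT) hg
    · have h3 := T.mul_mem heT ((zpowers_le.mpr I.xT) hg)
      simpa using h3
  have hRt : ∀ r ∈ R, t * r * t ∈ R := by
    rintro g (hg | hg)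
    · rw [hst g hg]; exact Or.inl hg
    · right
      rw [hei] at hg ⊢
      have h3 : t * g * t = (t * e * t) * (t * (e * g) * t) := by
        rw [← I.sigma_mul, ← mul_assoc e e g, he, one_mul]
      rw [h3, hs, hst _ hg]
      have : e * (e * (x * x) * (e * g)) = (x * x) * (e * g) := by
        rw [mul_assoc e (x * x), ← mul_assoc e e, he, one_mul]
      rw [this]
      exact mul_mem (mul_mem (mem_zpowers x) (mem_zpowers x)) hg
  by_cases hRT' : R = T
  · intro g hg
    rw [← hRT'] at hg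
    rcases hg with hg | hg
    · exact Or.inl hg
    · rw [hei] at hg; exact Or.inr hg
  exfalso
  obtain ⟨f, hfT, hfR, -, -, n, hn, -, hnt, hnφ, -⟩ :=
    grow I hRT (le_ext2 (mem_zpowers x)) hRt hRT'
  rcases hn with hn | hn
  · have hn2 : n * n = 1 := by
      have : n = n⁻¹ := by rw [← hnt, hst n hn]
      calc n * n = n * n⁻¹ := by rw [← this]
        _ = 1 := by simp
    by_cases hn1 : n = 1
    · apply hnφ 1 (one_mem _)
      rw [hn1]; simp [I.tt]
    · have hnz := invol_z4 I.xo hn hn2 hn1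
      apply hnφ e self_mem_ext2
      rw [hnz, hs, mul_inv_rev, inv_mul_cancel_right, inv_eq_of_mul_eq_one_left hzz]
  · rw [hei] at hn
    -- `n = e y`
    have hne : n = e * (e * n) := by rw [← mul_assoc, he, one_mul]
    have h3 : t * n * t = e * (x * x) * (e * n) := by
      nth_rw 1 [hne]
      rw [I.sigma_mul, hs, hst _ hn]
    rw [h3] at hnt
    have h4 : n⁻¹ = (e * n)⁻¹ * e := by
      nth_rw 1 [hne]
      rw [mul_inv_rev, hei]
    have h5 : (e * n)⁻¹ * e = e * (e * n) := by
      have h6 := hconj _ hn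
      have h7 : e * (e * n) * e = (e * n)⁻¹ := h6
      rw [← h7, mul_assoc _ e e, he, mul_one]
    rw [h4, h5] at hnt
    have h8 := mul_right_cancel hnt
    apply sq_ne_one_z4 I.xo
    have h9 : e * (x * x) = e * 1 := by rw [h8, mul_one]
    exact mul_left_cancel h9

/-- The data of a non-central involution commuting with `x`. -/
structure CData (T : Subgroup G) (t x c : G) : Prop where
  cT : c ∈ T
  cc : c * c = 1
  cx : c ∉ zpowers x
  comm : c * x = x * c
  sig : t * c * t = c * (x * x)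

theorem comm_elt (I : Inst T t x) {g : G} (hg : g ∈ T) (hgx : g * x = x * g)
    (hgn : g ∉ zpowers x) :
    ∃ u ∈ T, u ∉ zpowers x ∧ u * x = x * u ∧ t * u * t = u * (x * x) ∧ u * u ∈ zpowers x := by
  let R₂ : Subgroup G := T ⊓ centralizer ({x} : Set G)
  have hmem : ∀ h : G, h ∈ R₂ ↔ h ∈ T ∧ h * x = x * h := by
    intro h
    rw [Subgroup.mem_inf, Subgroup.mem_centralizer_singleton_iff]
  have hxR : x ∈ R₂ := (hmem x).2 ⟨I.xT, rfl⟩
  have hRt : ∀ r ∈ R₂, t * r * t ∈ R₂ := by
    intro r hr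
    obtain ⟨h1, h2⟩ := (hmem r).1 hr
    refine (hmem _).2 ⟨I.inv r h1, ?_⟩
    have h3 := congrArg (fun a => t * a * t) h2
    simp only [I.sigma_mul, I.tx] at h3
    exact h3
  have I₂ : Inst R₂ t x := I.mono inf_le_left hxR hRt
  have hne : R₂ ≠ zpowers x := by
    intro h
    apply hgn
    rw [← h]
    exact (hmem g).2 ⟨hg, hgx⟩
  obtain ⟨e, heR, hex, hs, -, hee⟩ := first_step I₂ hne
  obtain ⟨h1, h2⟩ := (hmem e).1 heR
  exact ⟨e, h1, hex, h2, hs, hee⟩

theorem u_to_c (I : Inst T t x) {u : G} (huT : u ∈ T) (hun : u ∉ zpowers x) (hux : u * x = x * u)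
    (hs : t * u * t = u * (x * x)) (huu : u * u ∈ zpowers x) :
    (∃ v, T = zpowers v) ∨ ∃ c, CData T t x c := by
  rcases mem_z4 I.xo huu with h | h | h | h
  · right
    exact ⟨u, huT, h, hun, hux, hs⟩
  · left
    exact ⟨u, z8_top I huT (Or.inl h) hs⟩
  · right
    refine ⟨u * x, T.mul_mem huT I.xT, ?_, ?_, ?_, ?_⟩
    · calc u * x * (u * x) = u * (x * u) * x := by group
        _ = u * (u * x) * x := by rw [hux]
        _ = (u * u) * (x * x) := by group
        _ = 1 := by rw [h, sq_sq_z4 I.xo]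
    · intro h1
      apply hun
      have := mul_mem h1 (inv_mem (mem_zpowers x))
      simpa using this
    · calc u * x * x = x * u * x := by rw [hux]
        _ = x * (u * x) := mul_assoc _ _ _
    · rw [I.sigma_mul, hs, I.tx]
      group
  · left
    exact ⟨u, z8_top I huT (Or.inr h) hs⟩

theorem dich (I : Inst T t x) :
    (∃ v, T = zpowers v) ∨ (∃ c, CData T t x c) ∨
    (∃ e ∈ T, e ∉ zpowers x ∧ e * e = 1 ∧ e * x * e⁻¹ = x⁻¹ ∧ t * e * t = e * (x * x)) ∨
    (∃ e ∈ T, e ∉ zpowers x ∧ e * e = x * x ∧ e * x * e⁻¹ = x⁻¹ ∧ t * e * t = e * (x * x) ∧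
      ∀ g ∈ T, g * x = x * g → g ∈ zpowers x) := by
  by_cases hT : T = zpowers x
  · exact Or.inl ⟨x, hT⟩
  obtain ⟨e, heT, hex, hs, hc | hc, hee⟩ := first_step I hT
  · have hcomm : e * x = x * e := by
      have := congrArg (fun a => a * e) hc
      simpa using this
    rcases u_to_c I heT hex hcomm hs hee with h | h
    · exact Or.inl h
    · exact Or.inr (Or.inl h)
  · have hne := inv_ne_z4 I.xo
    have hex2 : ∀ y, y = e * e → e * y * e⁻¹ = y := by
      rintro y rfl
      group
    rcases mem_z4 I.xo hee with h | h | h | h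
    · exact Or.inr (Or.inr (Or.inl ⟨e, heT, hex, h, hc, hs⟩))
    · exfalso
      have := hex2 x h.symm
      rw [hc] at this
      exact hne this.symm
    · refine Or.inr (Or.inr (Or.inr ⟨e, heT, hex, h, hc, hs, ?_⟩))
      intro g hg hgx
      by_contra hgn
      obtain ⟨u, huT, -, hux, hus, -⟩ := comm_elt I hg hgx hgn
      have hf : e * u⁻¹ ∈ zpowers x := by
        apply I.fix _ (T.mul_mem heT (T.inv_mem huT))
        rw [I.sigma_mul, I.sigma_inv, hs, hus]
        group
      have hfc : (e * u⁻¹) * x = x * (e * u⁻¹) := by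
        obtain ⟨k, hk⟩ := hf
        rw [← hk]
        show x ^ k * x = x * x ^ k
        exact ((Commute.refl x).zpow_left k)
      have hec : e * x = x * e := by
        have h1 : e * x = (e * u⁻¹) * x * u := by
          calc e * x = e * u⁻¹ * (u * x) := by group
            _ = e * u⁻¹ * (x * u) := by rw [hux]
            _ = _ := by group
        rw [h1, hfc]
        group
      apply hne
      rw [← hc, hec]
      group
    · exfalso
      have h1 : x = (e * e)⁻¹ := by rw [h, inv_inv]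
      have h2 : e * x * e⁻¹ = x := by
        rw [h1]
        group
      rw [hc] at h2
      exact hne h2.symm

end Cfsg.Agent.Lib.InvZ4.Cases
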