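import Cfsg.Agent.Lib.Transfer.Frobenius

/-!
# An involution acting on a `2`-group with cyclic fixed points of order four: the growth lemma
-/

set_option autoImplicit false
set_option linter.unusedSectionVars false
set_option linter.unusedVariables false

namespace Cfsg.Agent.Lib.InvZ4.Grow

open Subgroup

variable {G : Type*} [Group G]

/-- `N ∪ eN`. -/
def ext2 (N : Subgroup G) (e : G) (h1 : ∀ n ∈ N, e⁻¹ * n * e ∈ N) (h2 : e * e ∈ N) : Subgroup G where
  carrier := {g | g ∈ N ∨ e⁻¹ * g ∈ N}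
  one_mem' := Or.inl N.one_mem
  inv_mem' := by
    rintro g (hg | hg)
    · exact Or.inl (N.inv_mem hg)
    · right
      have h3 := h1 _ (N.inv_mem hg)
      have h4 := N.mul_mem h3 (N.inv_mem h2)
      convert h4 using 1
      group
  mul_mem' := by
    rintro a b (ha | ha) (hb | hb)
    · exact Or.inl (N.mul_mem ha hb)
    · right
      have h3 := N.mul_mem (h1 _ ha) hb
      convert h3 using 1
      group
    · right
      have h3 := N.mul_mem ha hb
      convert h3 using 1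
      group
    · left
      have h3 := N.mul_mem (N.mul_mem h2 (h1 _ ha)) hb
      convert h3 using 1
      group

theorem mem_ext2 {N : Subgroup G} {e : G} {h1 : ∀ n ∈ N, e⁻¹ * n * e ∈ N} {h2 : e * e ∈ N} {g : G} :
    g ∈ ext2 N e h1 h2 ↔ g ∈ N ∨ e⁻¹ * g ∈ N := Iff.rfl

theorem le_ext2 {N : Subgroup G} {e : G} {h1 : ∀ n ∈ N, e⁻¹ * n * e ∈ N} {h2 : e * e ∈ N} :
    N ≤ ext2 N e h1 h2 := fun _ h => Or.inl h

theorem self_mem_ext2 {N : Subgroup G} {e : G} {h1 : ∀ n ∈ N, e⁻¹ * n * e ∈ N} {h2 : e * e ∈ N} :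
    e ∈ ext2 N e h1 h2 := Or.inr (by simpa using N.one_mem)

theorem sq_mem_of_ext2 {N : Subgroup G} {e : G} {h1 : ∀ n ∈ N, e⁻¹ * n * e ∈ N} {h2 : e * e ∈ N}
    {g : G} (hg : g ∈ ext2 N e h1 h2) : g * g ∈ N := by
  rcases hg with hg | hg
  · exact N.mul_mem hg hg
  · have h3 := N.mul_mem (N.mul_mem h2 (h1 _ hg)) hg
    convert h3 using 1
    group

theorem isP_ext2 {N : Subgroup G} {e : G} {h1 : ∀ n ∈ N, e⁻¹ * n * e ∈ N} {h2 : e * e ∈ N}
    (hN : IsPGroup 2 N) : IsPGroup 2 (ext2 N e h1 h2) := by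
  rintro ⟨g, hg⟩
  obtain ⟨k, hk⟩ := hN ⟨g * g, sq_mem_of_ext2 hg⟩
  refine ⟨k + 1, ?_⟩
  apply Subtype.ext
  have h3 := congrArg Subtype.val hk
  simp only [SubmonoidClass.coe_pow, OneMemClass.coe_one] at h3
  simp only [SubmonoidClass.coe_pow, OneMemClass.coe_one]
  rw [pow_succ', pow_mul]
  rw [sq]
  exact h3

theorem order_conj (g x : G) : orderOf (g * x * g⁻¹) = orderOf x :=
  orderOf_injective (MulAut.conj g).toMonoidHom (MulAut.conj g).injective x

theorem mem_z4 {x y : G} (hx : orderOf x = 4) (hy : y ∈ zpowers x) :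
    y = 1 ∨ y = x ∨ y = x * x ∨ y = x⁻¹ := by
  obtain ⟨k, rfl⟩ := hy
  have h1 : x ^ 4 = 1 := by rw [← hx]; exact pow_orderOf_eq_one x
  have h2 : x ^ k = x ^ (k % 4) := by
    have := zpow_mod_orderOf x k
    rw [hx] at this
    exact_mod_cast this.symm
  show x ^ k = 1 ∨ x ^ k = x ∨ x ^ k = x * x ∨ x ^ k = x⁻¹
  rw [h2]
  have h3 : k % 4 = 0 ∨ k % 4 = 1 ∨ k % 4 = 2 ∨ k % 4 = 3 := by omega
  rcases h3 with h | h | h | h <;> rw [h]
  · left; simp
  · right; left; simp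
  · right; right; left
    rw [show (2 : ℤ) = ((2 : ℕ) : ℤ) from rfl, zpow_natCast, sq]
  · right; right; right
    rw [eq_inv_iff_mul_eq_one, show (3 : ℤ) = ((3 : ℕ) : ℤ) from rfl, zpow_natCast, ← pow_succ, h1]

theorem sq_ne_one_z4 {x : G} (hx : orderOf x = 4) : x * x ≠ 1 := by
  intro h
  have h1 : orderOf x ∣ 2 := orderOf_dvd_of_pow_eq_one (by rw [sq, h])
  rw [hx] at h1
  norm_num at h1

theorem ne_one_z4 {x : G} (hx : orderOf x = 4) : x ≠ 1 := by
  rintro rfl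
  simp at hx

theorem sq_sq_z4 {x : G} (hx : orderOf x = 4) : (x * x) * (x * x) = 1 := by
  have h1 : x ^ 4 = 1 := by rw [← hx]; exact pow_orderOf_eq_one x
  calc (x * x) * (x * x) = x ^ 4 := by simp only [pow_succ, pow_zero, one_mul, mul_assoc]
    _ = 1 := h1

theorem inv_ne_z4 {x : G} (hx : orderOf x = 4) : x ≠ x⁻¹ := by
  intro h
  apply sq_ne_one_z4 hx
  nth_rw 1 [h]
  simp

theorem invol_z4 {x y : G} (hx : orderOf x = 4) (hy : y ∈ zpowers x) (h2 : y * y = 1) (h1 : y ≠ 1) :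
    y = x * x := by
  rcases mem_z4 hx hy with h | h | h | h
  · exact absurd h h1
  · subst h; exact absurd h2 (sq_ne_one_z4 hx)
  · exact h
  · subst h
    exfalso
    apply sq_ne_one_z4 hx
    have : (x⁻¹ * x⁻¹)⁻¹ = 1 := by rw [h2, inv_one]
    simpa using this

theorem order_conj_z4 {x y : G} (hx : orderOf x = 4) (hy : y ∈ zpowers x) (ho : orderOf y = 4) :
    y = x ∨ y = x⁻¹ := by
  rcases mem_z4 hx hy with h | h | h | h
  · subst h; simp at ho
  · exact Or.inl h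
  · subst h
    exfalso
    have h1 : orderOf (x * x) ∣ 2 := orderOf_dvd_of_pow_eq_one (by rw [sq]; exact sq_sq_z4 hx)
    rw [ho] at h1
    norm_num at h1
  · exact Or.inr h

variable [Finite G]

/-- An involution `t` acting on the `2`-group `T` with fixed points `⟨x⟩`, `x` of order `4`. -/
structure Inst (T : Subgroup G) (t x : G) : Prop where
  isP : IsPGroup 2 T
  tt : t * t = 1
  tT : t ∉ T
  inv : ∀ g ∈ T, t * g * t ∈ T
  xT : x ∈ T
  xo : orderOf x = 4
  tx : t * x * t = x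
  fix : ∀ g ∈ T, t * g * t = g → g ∈ zpowers x

variable {T : Subgroup G} {t x : G}

theorem Inst.tinv (I : Inst T t x) : t⁻¹ = t := by
  rw [inv_eq_iff_mul_eq_one]; exact I.tt

theorem Inst.conj1 (I : Inst T t x) : ∀ n ∈ T, t⁻¹ * n * t ∈ T := by
  intro n hn
  rw [I.tinv]; exact I.inv n hn

/-- The group `T⟨t⟩`. -/
def Inst.S (I : Inst T t x) : Subgroup G :=
  ext2 T t I.conj1 (by rw [I.tt]; exact T.one_mem)

theorem Inst.sigma_mul (I : Inst T t x) (a b : G) : t * (a * b) * t = (t * a * t) * (t * b * t) := by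
  have := I.tt
  calc t * (a * b) * t = t * a * 1 * b * t := by group
    _ = t * a * (t * t) * b * t := by rw [this]
    _ = _ := by group

theorem Inst.sigma_inv (I : Inst T t x) (a : G) : t * a⁻¹ * t = (t * a * t)⁻¹ := by
  have h := I.tinv
  calc t * a⁻¹ * t = t * a⁻¹ * t⁻¹ := by rw [h]
    _ = (t * a * t⁻¹)⁻¹ := by group
    _ = _ := by rw [h]

theorem Inst.sigma_sigma (I : Inst T t x) (a : G) : t * (t * a * t) * t = a := by
  have := I.tt
  calc t * (t * a * t) * t = (t * t) * a * (t * t) := by group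
    _ = a := by rw [this]; group

theorem Inst.sigma_zpow (I : Inst T t x) (a : G) (k : ℤ) : t * a ^ k * t = (t * a * t) ^ k := by
  have h := I.tinv
  calc t * a ^ k * t = t * a ^ k * t⁻¹ := by rw [h]
    _ = (t * a * t⁻¹) ^ k := by rw [conj_zpow]
    _ = _ := by rw [h]

/-- Sub-instances. -/
theorem Inst.mono (I : Inst T t x) {R : Subgroup G} (hRT : R ≤ T) (hx : x ∈ R)
    (hR : ∀ g ∈ R, t * g * t ∈ R) : Inst R t x :=
  ⟨I.isP.to_le hRT, I.tt, fun h => I.tT (hRT h), hR, hx, I.xo, I.tx, fun g hg => I.fix g (hRT hg)⟩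

/-- The growth lemma. -/
theorem grow (I : Inst T t x) {R : Subgroup G} (hRT : R ≤ T) (hxR : x ∈ R)
    (hRt : ∀ r ∈ R, t * r * t ∈ R) (hne : R ≠ T) :
    ∃ e ∈ T, e ∉ R ∧ (∀ r ∈ R, e⁻¹ * r * e ∈ R) ∧ (∀ r ∈ R, e * r * e⁻¹ ∈ R) ∧
      ∃ n ∈ R, e⁻¹ * t * e = t * n ∧ t * n * t = n⁻¹ ∧ (∀ h ∈ R, n ≠ (t * h * t)⁻¹ * h) ∧
        ∀ r ∈ R, (t * n) * r = r * (t * n) → e * r * e⁻¹ ∈ zpowers x := by
  classical
  have htinv := I.tinv
  have h1R : ∀ n ∈ R, t⁻¹ * n * t ∈ R := by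
    intro n hn; rw [htinv]; exact hRt n hn
  have h2R : t * t ∈ R := by rw [I.tt]; exact R.one_mem
  let R₁ := ext2 R t h1R h2R
  have htR₁ : t ∈ R₁ := self_mem_ext2
  have hR₁T : ∀ g ∈ R₁, g ∈ T → g ∈ R := by
    rintro g (hg | hg) hgT
    · exact hg
    · exfalso
      apply I.tT
      have h3 := T.mul_mem hgT (T.inv_mem (hRT hg))
      convert h3 using 1
      group
  have hlt : R₁ < I.S := by
    refine lt_of_le_of_ne ?_ ?_
    · rintro g (hg | hg)
      · exact Or.inl (hRT hg)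
      · exact Or.inr (hRT hg)
    · intro h
      apply hne
      apply le_antisymm hRT
      intro g hg
      have : g ∈ R₁ := by rw [h]; exact Or.inl hg
      exact hR₁T g this hg
  have hSp : IsPGroup 2 I.S := isP_ext2 I.isP
  obtain ⟨g, hgS, hgR, hgN⟩ := Cfsg.Agent.Lib.Transfer.Frobenius.exists_mem_normalizer_of_lt hSp hlt
  -- an element of `T`
  obtain ⟨e, heT, heR, heN⟩ : ∃ e ∈ T, e ∉ R₁ ∧ e ∈ normalizer (R₁ : Set G) := by
    rcases hgS with hg | hg
    · exact ⟨g, hg, hgR, hgN⟩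
    · refine ⟨t⁻¹ * g, hg, ?_, ?_⟩
      · intro h
        apply hgR
        have := R₁.mul_mem htR₁ h
        simpa using this
      · exact mul_mem (inv_mem (Subgroup.le_normalizer htR₁)) hgN
  have heR' : e ∉ R := fun h => heR (le_ext2 h)
  have hconj : ∀ r ∈ R, e * r * e⁻¹ ∈ R := by
    intro r hr
    have h3 : e * r * e⁻¹ ∈ R₁ := (mem_normalizer_iff.mp heN r).mp (le_ext2 hr)
    exact hR₁T _ h3 (T.mul_mem (T.mul_mem heT (hRT hr)) (T.inv_mem heT))
  have heN' : e⁻¹ ∈ normalizer (R₁ : Set G) := inv_mem heN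
  have hconj' : ∀ r ∈ R, e⁻¹ * r * e ∈ R := by
    intro r hr
    have h3 : e⁻¹ * r * e⁻¹⁻¹ ∈ R₁ := (mem_normalizer_iff.mp heN' r).mp (le_ext2 hr)
    rw [inv_inv] at h3
    exact hR₁T _ h3 (T.mul_mem (T.mul_mem (T.inv_mem heT) (hRT hr)) heT)
  have h4 : e⁻¹ * t * e⁻¹⁻¹ ∈ R₁ := (mem_normalizer_iff.mp heN' t).mp htR₁
  rw [inv_inv] at h4
  have h5 : e⁻¹ * t * e ∉ T := by
    intro h
    apply I.tT
    have := T.mul_mem (T.mul_mem heT h) (T.inv_mem heT)
    convert this using 1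
    group
  have h6 : t⁻¹ * (e⁻¹ * t * e) ∈ R := by
    rcases h4 with h | h
    · exact absurd (hRT h) h5
    · exact h
  refine ⟨e, heT, heR', hconj', hconj, t⁻¹ * (e⁻¹ * t * e), h6, ?_, ?_, ?_, ?_⟩
  · group
  · -- `(t n)^2 = 1`
    have hE : (e⁻¹ * t * e)⁻¹ = e⁻¹ * t * e := by
      calc (e⁻¹ * t * e)⁻¹ = e⁻¹ * t⁻¹ * e := by group
        _ = _ := by rw [htinv]
    rw [mul_inv_rev, inv_inv, hE, mul_inv_cancel_left]
  · intro h hh heq
    have hth : (t * h * t)⁻¹ = t * h⁻¹ * t := by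
      calc (t * h * t)⁻¹ = t⁻¹ * h⁻¹ * t⁻¹ := by group
        _ = _ := by rw [htinv]
    have h7 : e⁻¹ * t * e = h⁻¹ * t * h := by
      have h8 : e⁻¹ * t * e = t * (t⁻¹ * (e⁻¹ * t * e)) := by group
      rw [h8, heq, hth]
      calc t * (t * h⁻¹ * t * h) = (t * t) * h⁻¹ * t * h := by group
        _ = _ := by rw [I.tt]; group
    have h8 : t * (e * h⁻¹) = (e * h⁻¹) * t := by
      calc t * (e * h⁻¹) = e * (e⁻¹ * t * e) * h⁻¹ := by group
        _ = e * (h⁻¹ * t * h) * h⁻¹ := by rw [h7]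
        _ = _ := by group
    have h9 : t * (e * h⁻¹) * t = e * h⁻¹ := by
      rw [h8, mul_assoc, I.tt, mul_one]
    have h10 := I.fix _ (T.mul_mem heT (T.inv_mem (hRT hh))) h9
    apply heR'
    have h11 := R.mul_mem ((zpowers_le.mpr hxR) h10) hh
    simpa using h11
  · intro r hr hc
    have h7 : t * (e⁻¹ * t * e) = t * (t * (t⁻¹ * (e⁻¹ * t * e))) := by group
    have hE : t * (t⁻¹ * (e⁻¹ * t * e)) = e⁻¹ * t * e := by group
    rw [hE] at hc
    apply I.fix _ (T.mul_mem (T.mul_mem heT (hRT hr)) (T.inv_mem heT))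
    have h8 : t * (e * r * e⁻¹) = (e * r * e⁻¹) * t := by
      calc t * (e * r * e⁻¹) = e * ((e⁻¹ * t * e) * r) * e⁻¹ := by group
        _ = e * (r * (e⁻¹ * t * e)) * e⁻¹ := by rw [hc]
        _ = _ := by group
    rw [h8, mul_assoc, I.tt, mul_one]

/-- The first step: above `⟨x⟩` there is an element moved by `x²` by `t`. -/
theorem first_step (I : Inst T t x) (hne : T ≠ zpowers x) :
    ∃ e ∈ T, e ∉ zpowers x ∧ t * e * t = e * (x * x) ∧ (e * x * e⁻¹ = x ∨ e * x * e⁻¹ = x⁻¹) ∧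
      e * e ∈ zpowers x := by
  have hxT : zpowers x ≤ T := zpowers_le.mpr I.xT
  have hst : ∀ r ∈ zpowers x, t * r * t = r := by
    rintro _ ⟨k, rfl⟩
    show t * x ^ k * t = x ^ k
    rw [I.sigma_zpow, I.tx]
  obtain ⟨e, heT, hex, h1, h2, n, hn, hen, hnt, hnφ, -⟩ := grow I hxT (mem_zpowers x)
    (fun r hr => by rw [hst r hr]; exact hr) hne.symm
  have hn1 : n ≠ 1 := by
    have := hnφ 1 (one_mem _)
    simpa [I.tt] using this
  have hn2 : n * n = 1 := by
    have : n = n⁻¹ := by rw [← hnt, hst n hn]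
    calc n * n = n * n⁻¹ := by rw [← this]
      _ = 1 := by simp
  have hnz : n = x * x := invol_z4 I.xo hn hn2 hn1
  have hzz : (x * x)⁻¹ = x * x := by
    rw [inv_eq_iff_mul_eq_one]; exact sq_sq_z4 I.xo
  have hs : t * e * t = e * (x * x) := by
    have h3 : t * e = e * (t * n) := by
      rw [← hen]; group
    rw [h3, mul_assoc, mul_assoc, ← mul_assoc t n t, hnt, hnz, hzz]
  have hcx : e * x * e⁻¹ = x ∨ e * x * e⁻¹ = x⁻¹ := by
    apply order_conj_z4 I.xo (h2 x (mem_zpowers x))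
    rw [order_conj, I.xo]
  refine ⟨e, heT, hex, hs, hcx, ?_⟩
  apply I.fix _ (T.mul_mem heT heT)
  have hcz : e⁻¹ * (x * x) * e = x * x := by
    have h5 : e⁻¹ * x * e ∈ zpowers x := h1 x (mem_zpowers x)
    have h6 : orderOf (e⁻¹ * x * e) = 4 := by
      have := order_conj e⁻¹ x
      rw [inv_inv] at this
      rw [this, I.xo]
    rcases order_conj_z4 I.xo h5 h6 with h7 | h7
    · calc e⁻¹ * (x * x) * e = (e⁻¹ * x * e) * (e⁻¹ * x * e) := by group
        _ = _ := by rw [h7]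
    · calc e⁻¹ * (x * x) * e = (e⁻¹ * x * e) * (e⁻¹ * x * e) := by group
        _ = x⁻¹ * x⁻¹ := by rw [h7]
        _ = (x * x)⁻¹ := by group
        _ = _ := hzz
  rw [I.sigma_mul, hs]
  calc e * (x * x) * (e * (x * x)) = e * e * (e⁻¹ * (x * x) * e) * (x * x) := by group
    _ = e * e * (x * x) * (x * x) := by rw [hcz]
    _ = e * e * ((x * x) * (x * x)) := by group
    _ = e * e := by rw [sq_sq_z4 I.xo, mul_one]

end Cfsg.Agent.Lib.InvZ4.Grow
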