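import Cfsg.Agent.Lib.MetaSyl2.Main

/-!
# A perfect group of even order has no metacyclic Sylow `2`-subgroup with a large cyclic quotient

This is the part of the metacyclic theorem which needs no information about groups of odd order.
-/

set_option autoImplicit false
set_option linter.unusedVariables false

namespace Cfsg.Agent.Lib.InvZ4.MetaPerf

open Cfsg Cfsg.Agent.Lib.MetaSyl2.Main

universe u

variable {G : Type u} [Group G] [Finite G]

theorem eq_top_of_solvable_quot (hc : commutator G = ⊤) (N : Subgroup G) [N.Normal]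
    [Group.IsSolvable (G ⧸ N)] : N = ⊤ := by
  by_contra hN
  obtain ⟨g, hg⟩ : ∃ g, g ∉ N := by
    by_contra h
    push_neg at h
    exact hN (eq_top_iff.mpr fun g _ => h g)
  have h1 : (g : G ⧸ N) ≠ 1 := by
    rwa [Ne, QuotientGroup.eq_one_iff]
  haveI : Nontrivial (G ⧸ N) := ⟨⟨_, _, h1⟩⟩
  have h2 := Group.IsSolvable.commutator_lt_top_of_nontrivial (G ⧸ N)
  apply h2.ne
  have h4 : (⊤ : Subgroup G).map (QuotientGroup.mk' N) = ⊤ := by
    rw [← MonoidHom.range_eq_map, MonoidHom.range_eq_top]
    exact QuotientGroup.mk'_surjective N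
  rw [commutator_def, ← h4, ← Subgroup.map_commutator, ← commutator_def, hc, h4]

theorem odd_of_complement (hcm : commutator G = ⊤) (S : Sylow 2 G) {N : Subgroup G} (hN : N.Normal)
    (hc : N.IsComplement' (S : Subgroup G)) : Odd (Nat.card G) := by
  haveI : Fact (Nat.Prime 2) := ⟨Nat.prime_two⟩
  have hodd : Odd (Nat.card N) := by
    have h1 : (S : Subgroup G).index = Nat.card N := hc.index_eq_card
    rw [← h1, ← Nat.not_even_iff_odd, even_iff_two_dvd]
    exact S.not_dvd_index
  have h2 : IsPGroup 2 (G ⧸ N) := by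
    have h3 : Nat.card (G ⧸ N) = Nat.card (S : Subgroup G) := by
      have h1 : N.index = Nat.card (S : Subgroup G) := hc.symm.index_eq_card
      exact h1
    obtain ⟨k, hk⟩ := IsPGroup.iff_card.1 S.isPGroup'
    exact IsPGroup.iff_card.2 ⟨k, h3.trans hk⟩
  haveI : Group.IsNilpotent (G ⧸ N) := h2.isNilpotent
  haveI : Group.IsSolvable (G ⧸ N) := inferInstance
  have h3 := eq_top_of_solvable_quot hcm N
  rw [h3, Subgroup.card_top] at hodd
  exact hodd

open Cfsg.Agent.Lib.Core.Basic in
/-- The homocyclic case, by the theorem of Brauer. -/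
theorem odd_of_homocyclic (hcm : commutator G = ⊤) (S : Sylow 2 G) {m : ℕ} (hm : 2 ≤ m)
    (e : (S : Subgroup G) ≃* Multiplicative (ZMod (2 ^ m) × ZMod (2 ^ m))) : Odd (Nat.card G) := by
  classical
  haveI : Fact (Nat.Prime 2) := ⟨Nat.prime_two⟩
  set O : Subgroup G := Cfsg.pPrimeCore 2 G with hOdef
  haveI hOn : O.Normal := Cfsg.pPrimeCore_normal 2 G
  have hcop : (Nat.card O).Coprime 2 := pPrimeCore_coprime
  have hOodd : Odd (Nat.card O) := by
    rw [← Nat.not_even_iff_odd, even_iff_two_dvd]
    intro h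
    have := Nat.dvd_gcd h (dvd_refl 2)
    rw [hcop.gcd_eq_one] at this
    omega
  let f : G →* G ⧸ O := QuotientGroup.mk' O
  have hf : Function.Surjective f := QuotientGroup.mk'_surjective O
  let P : Sylow 2 (G ⧸ O) := S.mapSurjective hf
  have hcoe : (P : Subgroup (G ⧸ O)) = (S : Subgroup G).map f := Sylow.coe_mapSurjective hf S
  have hinf : (S : Subgroup G) ⊓ O = ⊥ := inf_eq_bot_of_isPGroup_of_coprime S.isPGroup' hcop
  have hbij : Function.Bijective (f.subgroupMap (S : Subgroup G)) := by
    refine ⟨?_, f.subgroupMap_surjective _⟩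
    rw [injective_iff_map_eq_one]
    rintro ⟨x, hx⟩ h1
    have h2 : f x = 1 := congrArg Subtype.val h1
    have h3 : x ∈ O := (QuotientGroup.eq_one_iff x).mp h2
    have h4 : x ∈ (S : Subgroup G) ⊓ O := ⟨hx, h3⟩
    rw [hinf, Subgroup.mem_bot] at h4
    exact Subtype.ext h4
  let e₁ : (S : Subgroup G) ≃* (S : Subgroup G).map f := MulEquiv.ofBijective _ hbij
  let e₂ : (P : Subgroup (G ⧸ O)) ≃* (S : Subgroup G).map f := MulEquiv.subgroupCongr hcoe
  have hO : ∀ N : Subgroup (G ⧸ O), N.Normal → Odd (Nat.card N) → N = ⊥ := by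
    intro N hN hodd
    have h1 : N ≤ Cfsg.pPrimeCore 2 (G ⧸ O) := le_pPrimeCore hN (Nat.coprime_two_right.mpr hodd)
    have h2 : Cfsg.pPrimeCore 2 (G ⧸ O) = ⊥ := pPrimeCore_quotient_eq_bot
    rw [h2] at h1
    exact le_bot_iff.mp h1
  obtain ⟨hPn, -, hidx⟩ := Cfsg.Agent.S0949.result P m hm (e₂.trans (e₁.symm.trans e)) (by
    simpa [hOdef] using hO)
  haveI := hPn
  have hPp : IsPGroup 2 (P : Subgroup (G ⧸ O)) := P.isPGroup'
  haveI : Group.IsNilpotent (P : Subgroup (G ⧸ O)) := hPp.isNilpotent
  haveI : Group.IsSolvable (P : Subgroup (G ⧸ O)) := inferInstance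
  have hcyc : IsCyclic ((G ⧸ O) ⧸ (P : Subgroup (G ⧸ O))) := by
    rcases hidx with h | h
    · have h1 : Nat.card ((G ⧸ O) ⧸ (P : Subgroup (G ⧸ O))) = 1 := h
      haveI := (Nat.card_eq_one_iff_unique.mp h1).1
      exact isCyclic_of_subsingleton
    · have h1 : Nat.card ((G ⧸ O) ⧸ (P : Subgroup (G ⧸ O))) = 3 := h
      haveI : Fact (Nat.Prime 3) := ⟨Nat.prime_three⟩
      exact isCyclic_of_prime_card h1
  haveI : Group.IsSolvable ((G ⧸ O) ⧸ (P : Subgroup (G ⧸ O))) :=
    isSolvable_of_comm (comm_of_cyclic hcyc)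
  haveI : Group.IsSolvable (G ⧸ O) :=
    solvable_of_ker_le_range (P : Subgroup (G ⧸ O)).subtype (QuotientGroup.mk' (P : Subgroup (G ⧸ O))) (by
      rw [QuotientGroup.ker_mk', Subgroup.range_subtype])
  have h3 := eq_top_of_solvable_quot hcm O
  rw [h3, Subgroup.card_top] at hOodd
  exact hOodd

/-- **The metacyclic theorem** for perfect groups, with no appeal to groups of odd order. -/
theorem main_perf (hcm : commutator G = ⊤) (S : Sylow 2 G) (N : Subgroup ↥(S : Subgroup G)) [hN : N.Normal]
    (hNc : IsCyclic N) (hQc : IsCyclic (↥(S : Subgroup G) ⧸ N))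
    (hQ : 2 < Nat.card (↥(S : Subgroup G) ⧸ N)) : Odd (Nat.card G) := by
  classical
  haveI : Fact (Nat.Prime 2) := ⟨Nat.prime_two⟩
  have hm : Cfsg.IsMetacyclic ↥(S : Subgroup G) := ⟨N, hN, hNc, hQc⟩
  have hS : IsPGroup 2 (S : Subgroup G) := S.isPGroup'
  by_cases hcyc : IsCyclic (S : Subgroup G)
  · obtain ⟨T, K, hK, hc⟩ := Cfsg.Agent.Lib.TwoFusion.IndexTwo.hasNormalTwoComplement_of_cyclic S hcyc
    exact odd_of_complement hcm T hK hc
  by_cases hA : IsPGroup 2 (MulAut (S : Subgroup G))
  · have hd : ¬ ∃ m : ℕ, Nonempty (↥(S : Subgroup G) ≃* DihedralGroup m) :=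
      fun ⟨m, ⟨e⟩⟩ => (not_dihedral hQc hQ m).false e
    have hq : ¬ ∃ m : ℕ, Nonempty (↥(S : Subgroup G) ≃* QuaternionGroup m) := by
      rintro ⟨m, ⟨e⟩⟩
      rcases Nat.even_or_odd m with h | h
      · exact (not_quaternion hQc hQ h).false e
      · apply hcyc
        haveI : NeZero m := ⟨fun h0 => by simp [h0] at h⟩
        obtain ⟨k, hk⟩ := IsPGroup.iff_card.1 hS
        have h1 : Nat.card (S : Subgroup G) = 4 * m := by
          rw [Nat.card_congr e.toEquiv, Nat.card_eq_fintype_card, QuaternionGroup.card]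
        have h2 : m ∣ 2 ^ k := by
          rw [← hk, h1]
          exact dvd_mul_left _ _
        obtain ⟨j, -, hj⟩ := (Nat.dvd_prime_pow Nat.prime_two).1 h2
        have hm1 : m = 1 := by
          rcases Nat.eq_zero_or_pos j with rfl | hj0
          · simpa using hj
          · exfalso
            rw [hj] at h
            exact (Nat.not_odd_iff_even.mpr ((Nat.even_pow' (by omega)).mpr even_two)) h
        subst hm1
        haveI := QuaternionGroup.quaternionGroup_one_isCyclic
        exact isCyclic_of_surjective e.symm e.symm.surjective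
    have hsd := not_quasiDihedral hS hQc hQ
    have hin := inner_of_aut hS (Cfsg.groupFusionSystem (S : Subgroup G))
      (Cfsg.Agent.Lib.Fusion.GroupSystem.isSaturated S) hm hd hq hsd hA
    obtain ⟨K, hK, hc⟩ := complement_of_inner S hin
    exact odd_of_complement hcm S hK hc
  · rcases Cfsg.Agent.Lib.PGroups.MetacyclicAut.main hS hm hA with ⟨⟨e⟩⟩ | ⟨n, ⟨e⟩⟩
    · exact ((not_quaternion hQc hQ (by decide)).false e).elim
    · have hn : 2 ≤ n := by
        by_contra hn
        apply not_all_sq hQc hQ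
        intro s
        have h1 : s ^ 2 = 1 := by
          apply e.injective
          rw [map_pow, map_one]
          obtain ⟨a, b⟩ := e s
          have key : ∀ c : ZMod (2 ^ n), 2 • c = 0 := by
            intro c
            interval_cases n
            · revert c
              decide
            · revert c
              decide
          ext
          · exact key _
          · exact key _
        rw [← QuotientGroup.mk_pow, h1]
        rfl
      exact odd_of_homocyclic hcm S hn (e.trans (MulEquiv.prodMultiplicative _ _).symm)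

end Cfsg.Agent.Lib.InvZ4.MetaPerf
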