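import Cfsg.Agent.Lib.InvZ4.Thompson

/-!
# The semidihedral case
-/

set_option autoImplicit false
set_option linter.unusedSectionVars false
set_option linter.unusedVariables false

namespace Cfsg.Agent.Lib.InvZ4.SD

open Subgroup Cfsg.Agent.Lib.InvZ4.Grow Cfsg.Agent.Lib.InvZ4.Cases Cfsg.Agent.Lib.InvZ4.AbP
  Cfsg.Agent.Lib.InvZ4.Thompson
open Cfsg.Agent.Lib.KleinSD (IsMax2 DS Ctx)

variable {G : Type*} [Group G] [Finite G]

theorem exists_max2 {K Q : Subgroup G} (hQ : Q ≤ K) (hP : IsPGroup 2 Q) :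
    ∃ S, IsMax2 S K ∧ Q ≤ S := by
  classical
  let s : Set (Subgroup G) := {S | S ≤ K ∧ IsPGroup 2 S}
  obtain ⟨S, hQS, hS⟩ := (Set.toFinite s).exists_le_maximal (a := Q) ⟨hQ, hP⟩
  exact ⟨S, ⟨hS.prop.1, hS.prop.2, fun R hR hRP hSR => hS.le_of_ge ⟨hR, hRP⟩ hSR⟩, hQS⟩

/-- The group-theoretic setting. -/
structure Setting (A T S₀ G₀ : Subgroup G) (t x : G) : Prop where
  hT : IsMax2 T A
  hTdef : T = S₀ ⊓ A
  hS₀ : IsMax2 S₀ G₀
  hAG : A ≤ G₀
  hnorm : ∀ k ∈ G₀, ∀ c ∈ A, k * c * k⁻¹ ∈ A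
  tS : t ∈ S₀
  tA : t ∉ A
  I : Inst T t x
  hZ : IsMax2 (zpowers x) (A ⊓ centralizer ({t} : Set G))

section
variable {T : Subgroup G} {a y : G} {m : ℕ} {δ : ℤ}

/-- The subgroup `⟨a²⟩ ∪ ⟨a²⟩ y`. -/
def T1 (D : DS T a y m δ) : Subgroup G where
  carrier := {t | (∃ j : ℤ, t = a ^ (2 * j)) ∨ ∃ j : ℤ, t = a ^ (2 * j) * y}
  one_mem' := Or.inl ⟨0, by simp⟩
  mul_mem' := by
    rintro x x' (⟨i, rfl⟩ | ⟨i, rfl⟩) (⟨j, rfl⟩ | ⟨j, rfl⟩)
    · left
      exact ⟨i + j, by rw [← zpow_add]; congr 1; ring⟩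
    · right
      exact ⟨i + j, by rw [← mul_assoc, ← zpow_add]; congr 2; ring⟩
    · right
      refine ⟨i + δ * j, ?_⟩
      rw [D.mul_y_pow]
      congr 2
      ring
    · left
      refine ⟨i + δ * j, ?_⟩
      rw [D.mul_y_mul]
      congr 1
      ring
  inv_mem' := by
    rintro x (⟨i, rfl⟩ | ⟨i, rfl⟩)
    · left
      exact ⟨-i, by rw [← zpow_neg]; congr 1; ring⟩
    · right
      refine ⟨δ * (-i), ?_⟩
      rw [mul_inv_rev, D.yinv, ← zpow_neg, D.y_mul]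
      congr 2
      ring

theorem T1_le (D : DS T a y m δ) : T1 D ≤ T := by
  rintro x (⟨i, rfl⟩ | ⟨i, rfl⟩)
  · exact zpow_mem D.ha _
  · exact mul_mem (zpow_mem D.ha _) D.hy

theorem sq_even (D : DS T a y m δ) (hδ : δ = 2 ^ (m + 1) - 1) (l : ℤ) :
    (a ^ (2 * l) * y) * (a ^ (2 * l) * y) = 1 := by
  rw [D.mul_y_mul, D.zeq1]
  exact ⟨l, by rw [hδ]; ring⟩

theorem sq_odd (D : DS T a y m δ) (hδ : δ = 2 ^ (m + 1) - 1) (l : ℤ) :
    (a ^ (2 * l + 1) * y) * (a ^ (2 * l + 1) * y) = DS.z a m := by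
  rw [D.mul_y_mul]
  unfold DS.z
  rw [D.zeq]
  exact ⟨l, by rw [hδ]; ring⟩

end

theorem no_SD {A T S₀ G₀ : Subgroup G} {t x a b : G} {m : ℕ} {δ : ℤ}
    (St : Setting A T S₀ G₀ t x) (hperf : ∀ (f : A →* ℤˣ) (g : A), f g = 1)
    (D : DS T a b m δ) (hm : 1 ≤ m) (hδ : δ = 2 ^ (m + 1) - 1)
    (hself : ∀ g ∈ T, g * x = x * g → g ∈ zpowers x) : False := by
  classical
  have I := St.I
  have hTA := St.hT.le
  have hz1 := sq_ne_one_z4 I.xo
  have hzz := sq_sq_z4 I.xo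
  have hao := D.hao
  have hbig : ¬ (2 : ℕ) ^ (m + 2) ∣ 4 := by
    intro h
    have h2 := Nat.le_of_dvd (by norm_num) h
    have h3 : 2 ^ (m + 2) = 4 * 2 ^ m := by ring
    have h4 : 2 ^ 1 ≤ 2 ^ m := Nat.pow_le_pow_right (by norm_num) hm
    omega
  have hxnot : x ∉ zpowers a := by
    rintro ⟨j, hj⟩
    have hj' : a ^ j = x := hj
    have h1 : a * x = x * a := by
      rw [← hj']
      exact ((Commute.refl a).zpow_right j).eq
    have h2 := hself a D.ha h1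
    have h3 := orderOf_dvd_of_mem_zpowers h2
    rw [hao, I.xo] at h3
    exact hbig h3
  obtain ⟨i, hi⟩ : ∃ i : ℤ, x = a ^ i * b := by
    rcases D.hmem x I.xT with ⟨j, hj⟩ | h
    · exact absurd ⟨j, hj.symm⟩ hxnot
    · exact h
  obtain ⟨i', rfl⟩ : ∃ i' : ℤ, i = 2 * i' + 1 := by
    rcases Int.emod_two_eq_zero_or_one i with h | h
    · exfalso
      obtain ⟨l, rfl⟩ : ∃ l, i = 2 * l := ⟨i / 2, by omega⟩
      apply hz1
      rw [hi]
      exact sq_even D hδ l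
    · exact ⟨i / 2, by omega⟩
  have hxz : x * x = DS.z a m := by
    rw [hi]
    exact sq_odd D hδ i'
  have hxK : x ∉ T1 D := by
    rintro (⟨j, hj⟩ | ⟨j, hj⟩)
    · rw [hi] at hj
      exact D.ne_y _ _ hj
    · rw [hi, D.eq_y] at hj
      obtain ⟨c, hc⟩ := hj
      have h5 : (2 : ℤ) * i' + 1 - 2 * j = 2 * (2 ^ (m + 1) * c) := by
        rw [hc]
        ring
      omega
  obtain ⟨q, hq⟩ : ∃ q, δ = 2 * q + 1 := ⟨δ / 2, by have := D.δodd; omega⟩
  have hcov : ∀ g ∈ T, g ∈ T1 D ∨ x * g ∈ T1 D := by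
    intro g hg
    rcases D.hmem g hg with ⟨j, rfl⟩ | ⟨j, rfl⟩
    · rcases Int.emod_two_eq_zero_or_one j with h | h
      · left
        obtain ⟨l, rfl⟩ : ∃ l, j = 2 * l := ⟨j / 2, by omega⟩
        exact Or.inl ⟨l, rfl⟩
      · right
        obtain ⟨l, rfl⟩ : ∃ l, j = 2 * l + 1 := ⟨j / 2, by omega⟩
        right
        refine ⟨i' + q * (2 * l + 1) + l + 1, ?_⟩
        rw [hi, D.mul_y_pow, hq]
        congr 2
        ring
    · rcases Int.emod_two_eq_zero_or_one j with h | h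
      · left
        obtain ⟨l, rfl⟩ : ∃ l, j = 2 * l := ⟨j / 2, by omega⟩
        exact Or.inr ⟨l, rfl⟩
      · right
        obtain ⟨l, rfl⟩ : ∃ l, j = 2 * l + 1 := ⟨j / 2, by omega⟩
        left
        refine ⟨i' + q * (2 * l + 1) + l + 1, ?_⟩
        rw [hi, D.mul_y_mul, hq]
        congr 1
        ring
  have hzK : DS.z a m ∈ T1 D := Or.inl ⟨2 ^ m, by
    unfold DS.z
    congr 1
    ring⟩
  have hcc : x * x ∈ T1 D := by
    rw [hxz]
    exact hzK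
  have hx4 : x ^ (2 ^ 2) = 1 := by
    have h4 : x ^ 4 = 1 := by
      rw [← I.xo]
      exact pow_orderOf_eq_one x
    simpa using h4
  have hxA := hTA I.xT
  have hmin : ∀ k : ℕ, k ≠ 1 → k ∣ 2 ^ 2 → ∀ g ∈ A, g⁻¹ * x ^ k * g ∈ T →
      g⁻¹ * x ^ k * g ∈ T1 D := by
    intro k hk hk2 g _ hv
    obtain ⟨i₀, hi₀, rfl⟩ := (Nat.dvd_prime_pow Nat.prime_two).mp hk2
    have hcases : i₀ = 0 ∨ i₀ = 1 ∨ i₀ = 2 := by omega
    rcases hcases with rfl | rfl | rfl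
    · exact absurd (pow_zero 2) hk
    · have hv2 : g⁻¹ * x ^ (2 ^ 1) * g = g⁻¹ * (x * x) * g := by rw [pow_one, sq]
      rw [hv2] at hv ⊢
      have hvv : (g⁻¹ * (x * x) * g) * (g⁻¹ * (x * x) * g) = 1 := by
        calc (g⁻¹ * (x * x) * g) * (g⁻¹ * (x * x) * g) = g⁻¹ * ((x * x) * (x * x)) * g := by group
          _ = 1 := by rw [hzz]; group
      rcases D.hmem _ hv with ⟨j, hj⟩ | ⟨j, hj⟩
      · rw [hj] at hvv ⊢
        rcases D.sq_pow (by rw [sq]; exact hvv) with h | h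
        · rw [h]
          exact one_mem _
        · rw [h]
          exact hzK
      · rcases Int.emod_two_eq_zero_or_one j with h | h
        · obtain ⟨l, rfl⟩ : ∃ l, j = 2 * l := ⟨j / 2, by omega⟩
          rw [hj]
          exact Or.inr ⟨l, rfl⟩
        · exfalso
          obtain ⟨l, rfl⟩ : ∃ l, j = 2 * l + 1 := ⟨j / 2, by omega⟩
          rw [hj, sq_odd D hδ l] at hvv
          exact D.z_ne_one hvv
    · rw [hx4]
      simp [one_mem]
  obtain ⟨g, hgA, hg1, -⟩ := thompson St.hT hperf (T1_le D) I.xT hxK hcc hcov hxA 2 hx4 hmin ⊥ bot_le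
    IsPGroup.of_bot (by
      intro p hp
      rw [Subgroup.mem_bot] at hp
      rw [hp]
      group)
  obtain ⟨j₀, hj₀⟩ : ∃ j₀ : ℤ, g⁻¹ * x * g = a ^ (2 * j₀) := by
    rcases hg1 with ⟨j, hj⟩ | ⟨j, hj⟩
    · exact ⟨j, hj⟩
    · exfalso
      apply hz1
      have h1 := sq_even D hδ j
      rw [← hj] at h1
      have h2 : x * x = g * ((g⁻¹ * x * g) * (g⁻¹ * x * g)) * g⁻¹ := by group
      rw [h2, h1]
      group
  have habx : (g * a * g⁻¹) * x = x * (g * a * g⁻¹) := by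
    have h1 : x = g * a ^ (2 * j₀) * g⁻¹ := by
      rw [← hj₀]
      group
    have h2 : a * a ^ (2 * j₀) = a ^ (2 * j₀) * a := ((Commute.refl a).zpow_right _).eq
    rw [h1]
    calc g * a * g⁻¹ * (g * a ^ (2 * j₀) * g⁻¹) = g * (a * a ^ (2 * j₀)) * g⁻¹ := by group
      _ = g * (a ^ (2 * j₀) * a) * g⁻¹ := by rw [h2]
      _ = _ := by group
  have htG : t ∈ G₀ := St.hS₀.le St.tS
  have htxc : t * x = x * t := by
    calc t * x = t * x * t * t := by rw [mul_assoc _ t t, I.tt, mul_one]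
      _ = x * t := by rw [I.tx]
  let C₀ : Subgroup G := G₀ ⊓ centralizer ({x} : Set G)
  have hxC : zpowers x ≤ C₀ :=
    zpowers_le.mpr ⟨St.hAG hxA, Subgroup.mem_centralizer_singleton_iff.2 rfl⟩
  have htC : t ∈ C₀ := ⟨htG, Subgroup.mem_centralizer_singleton_iff.2 htxc⟩
  have hxst : ∀ r ∈ zpowers x, t * r * t ∈ zpowers x := by
    rintro _ ⟨k, rfl⟩
    show t * x ^ k * t ∈ zpowers x
    rw [I.sigma_zpow, I.tx]
    exact zpow_mem (mem_zpowers x) k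
  have I' : Inst (zpowers x) t x := I.mono (zpowers_le.mpr I.xT) (mem_zpowers x) hxst
  have hQC₀ : I'.S ≤ C₀ := by
    rintro h (hg | hg)
    · exact hxC hg
    · have h3 := C₀.mul_mem htC (hxC hg)
      simpa using h3
  obtain ⟨Q₀, hQ₀, hQQ₀⟩ := exists_max2 hQC₀ (isP_ext2 I'.isP)
  have hxQ₀ : x ∈ Q₀ := hQQ₀ (le_ext2 (mem_zpowers x))
  have htQ₀ : t ∈ Q₀ := hQQ₀ self_mem_ext2
  let CA : Subgroup G := A ⊓ centralizer ({x} : Set G)
  have hCA : CA ≤ C₀ := inf_le_inf_right _ St.hAG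
  have hn : ∀ k ∈ C₀, ∀ c ∈ CA, k * c * k⁻¹ ∈ CA := by
    intro k hk c hc
    have hk' := Subgroup.mem_inf.mp hk
    have hc' := Subgroup.mem_inf.mp hc
    exact Subgroup.mem_inf.mpr
      ⟨St.hnorm k hk'.1 c hc'.1, mul_mem (mul_mem hk'.2 hc'.2) (inv_mem hk'.2)⟩
  have hQ₁ := hQ₀.inf_normal hCA hn
  have habA : g * a * g⁻¹ ∈ A := mul_mem (mul_mem hgA (hTA D.ha)) (inv_mem hgA)
  have habo : orderOf (g * a * g⁻¹) = 2 ^ (m + 2) := by rw [order_conj, hao]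
  have hzab : zpowers (g * a * g⁻¹) ≤ CA :=
    zpowers_le.mpr ⟨habA, Subgroup.mem_centralizer_singleton_iff.2 habx⟩
  have hzabp : IsPGroup 2 (zpowers (g * a * g⁻¹)) :=
    IsPGroup.of_card (n := m + 2) (by rw [Nat.card_zpowers, habo])
  obtain ⟨r, hrCA, hr⟩ := hQ₁.exists_conj hzab hzabp
  obtain ⟨a₂, ha₂def⟩ : ∃ a₂, a₂ = r * (g * a * g⁻¹) * r⁻¹ := ⟨_, rfl⟩
  have ha₂ : a₂ ∈ Q₀ ⊓ CA := by
    rw [ha₂def]
    exact hr _ (mem_zpowers _)
  have ha₂x : a₂ * x = x * a₂ := Subgroup.mem_centralizer_singleton_iff.1 ha₂.2.2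
  have ha₂A : a₂ ∈ A := ha₂.2.1
  have ha₂o : orderOf a₂ = 2 ^ (m + 2) := by rw [ha₂def, order_conj, habo]
  obtain ⟨f, hfG, hf⟩ := St.hS₀.exists_conj (hQ₀.le.trans inf_le_left) hQ₀.isP
  obtain ⟨y', hy'⟩ : ∃ y', y' = f * x * f⁻¹ := ⟨_, rfl⟩
  obtain ⟨τ, hτ⟩ : ∃ τ, τ = f * t * f⁻¹ := ⟨_, rfl⟩
  obtain ⟨a₁, ha₁⟩ : ∃ a₁, a₁ = f * a₂ * f⁻¹ := ⟨_, rfl⟩
  have hTmem : ∀ h, h ∈ T ↔ h ∈ S₀ ∧ h ∈ A := by
    intro h
    rw [St.hTdef]
    exact mem_inf
  have hy'T : y' ∈ T := by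
    rw [hy']
    exact (hTmem _).2 ⟨hf x hxQ₀, St.hnorm f hfG x hxA⟩
  have ha₁T : a₁ ∈ T := by
    rw [ha₁]
    exact (hTmem _).2 ⟨hf a₂ ha₂.1, St.hnorm f hfG a₂ ha₂A⟩
  have hτS : τ ∈ S₀ := by
    rw [hτ]
    exact hf t htQ₀
  have hfinv : f⁻¹ ∈ G₀ := inv_mem hfG
  have hτA : τ ∉ A := by
    intro h
    apply St.tA
    have h3 := St.hnorm f⁻¹ hfinv τ h
    rw [hτ] at h3
    have h4 : f⁻¹ * (f * t * f⁻¹) * f⁻¹⁻¹ = t := by group
    rwa [h4] at h3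
  have hτG : τ ∈ G₀ := St.hS₀.le hτS
  have hay : a₁ * y' = y' * a₁ := by
    calc a₁ * y' = f * (a₂ * x) * f⁻¹ := by rw [ha₁, hy']; group
      _ = f * (x * a₂) * f⁻¹ := by rw [ha₂x]
      _ = _ := by rw [ha₁, hy']; group
  have ha₁o : orderOf a₁ = 2 ^ (m + 2) := by rw [ha₁, order_conj, ha₂o]
  have hy'o : orderOf y' = 4 := by rw [hy', order_conj, I.xo]
  obtain ⟨j, hj⟩ : ∃ j : ℤ, a₁ = a ^ j := by
    rcases D.hmem a₁ ha₁T with h | ⟨j, hj⟩
    · exact h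
    · exfalso
      have h4 : a₁ ^ 4 = 1 := by
        have h5 : a₁ ^ 4 = (a₁ * a₁) * (a₁ * a₁) := by
          simp only [pow_succ, pow_zero, one_mul, mul_assoc]
        rw [h5, hj]
        rcases Int.emod_two_eq_zero_or_one j with h | h
        · obtain ⟨l, rfl⟩ : ∃ l, j = 2 * l := ⟨j / 2, by omega⟩
          rw [sq_even D hδ l, one_mul]
        · obtain ⟨l, rfl⟩ : ∃ l, j = 2 * l + 1 := ⟨j / 2, by omega⟩
          rw [sq_odd D hδ l, ← sq]
          exact D.z_sq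
      have h5 := orderOf_dvd_of_pow_eq_one h4
      rw [ha₁o] at h5
      exact hbig h5
  have hjodd : j % 2 = 1 := by
    by_contra h
    obtain ⟨l, rfl⟩ : ∃ l, j = 2 * l := ⟨j / 2, by omega⟩
    have h6 : a₁ ^ (2 ^ (m + 1)) = 1 := by
      rw [hj, ← zpow_natCast, ← zpow_mul, D.zeq1]
      refine ⟨l, ?_⟩
      push_cast
      ring
    have h7 := orderOf_dvd_of_pow_eq_one h6
    rw [ha₁o] at h7
    have h8 := Nat.le_of_dvd (by positivity) h7
    have h9 : 2 ^ (m + 2) = 2 * 2 ^ (m + 1) := by ring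
    have h10 : 0 < 2 ^ (m + 1) := by positivity
    omega
  obtain ⟨l, hl⟩ : ∃ l : ℤ, y' = a ^ l := by
    rcases D.hmem y' hy'T with h | ⟨l, hl⟩
    · exact h
    · exfalso
      rw [hj, hl] at hay
      have h1 : a ^ j * (a ^ l * b) = a ^ (j + l) * b := by rw [← mul_assoc, ← zpow_add]
      rw [h1, D.mul_y_pow, D.eq_y] at hay
      have h2 : (2 : ℤ) ^ (m + 2) ∣ (1 - δ) * j := by
        convert hay using 1
        ring
      have h3 := D.dvd_of_sub_mul h2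
      have h4 : (2 : ℤ) ∣ j := dvd_trans ⟨2 ^ m, by ring⟩ h3
      omega
  have hττ : τ * τ = 1 := by
    rw [hτ]
    calc f * t * f⁻¹ * (f * t * f⁻¹) = f * (t * t) * f⁻¹ := by group
      _ = 1 := by rw [I.tt]; group
  have hτi : τ⁻¹ = τ := inv_eq_of_mul_eq_one_left hττ
  have hτy : τ * y' * τ = y' := by
    rw [hτ, hy']
    calc f * t * f⁻¹ * (f * x * f⁻¹) * (f * t * f⁻¹) = f * (t * x * t) * f⁻¹ := by group
      _ = _ := by rw [I.tx]
  have hcτ : ∀ q, τ * q * τ = q → q * τ = τ * q := by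
    intro q hq
    calc q * τ = τ * q * τ * τ := by rw [hq]
      _ = τ * q := by rw [mul_assoc _ τ τ, hττ, mul_one]
  have hfix : ∀ h ∈ T, τ * h * τ = h → h ∈ zpowers y' := by
    intro h hh hfixh
    let Cτ : Subgroup G := T ⊓ centralizer ({τ} : Set G)
    let Qf : Subgroup G := Cτ.map (MulAut.conj f⁻¹).toMonoidHom
    have hQfmem : ∀ q ∈ Cτ, f⁻¹ * q * f ∈ Qf := fun q hq => ⟨q, hq, by simp [MulAut.conj_apply]⟩
    have hQfle : Qf ≤ A ⊓ centralizer ({t} : Set G) := by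
      rintro _ ⟨q, hq, rfl⟩
      have hq' : (MulAut.conj f⁻¹).toMonoidHom q = f⁻¹ * q * f := by simp [MulAut.conj_apply]
      rw [hq']
      have hqA : q ∈ A := hTA hq.1
      have hqτ : q * τ = τ * q := Subgroup.mem_centralizer_singleton_iff.1 hq.2
      refine ⟨?_, Subgroup.mem_centralizer_singleton_iff.2 ?_⟩
      · have h3 := St.hnorm f⁻¹ hfinv q hqA
        simpa using h3
      · have h1 : f * (f⁻¹ * q * f * t) * f⁻¹ = q * τ := by rw [hτ]; group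
        have h2 : f * (t * (f⁻¹ * q * f)) * f⁻¹ = τ * q := by rw [hτ]; group
        have h3 : f * (f⁻¹ * q * f * t) * f⁻¹ = f * (t * (f⁻¹ * q * f)) * f⁻¹ := by
          rw [h1, h2, hqτ]
        exact mul_left_cancel (mul_right_cancel h3)
    have hQfp : IsPGroup 2 Qf := (I.isP.to_le inf_le_left).map _
    have hxQf : x ∈ Qf := by
      have hy'C : y' ∈ Cτ := ⟨hy'T, Subgroup.mem_centralizer_singleton_iff.2 (hcτ y' hτy)⟩
      have h3 := hQfmem y' hy'C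
      rw [hy'] at h3
      have h4 : f⁻¹ * (f * x * f⁻¹) * f = x := by group
      rwa [h4] at h3
    have h3 := St.hZ.max Qf hQfle hQfp (zpowers_le.mpr hxQf)
    have hhC : h ∈ Cτ := ⟨hh, Subgroup.mem_centralizer_singleton_iff.2 (hcτ h hfixh)⟩
    obtain ⟨n, hn⟩ := h3 (hQfmem h hhC)
    have hn' : x ^ n = f⁻¹ * h * f := hn
    refine ⟨n, ?_⟩
    show y' ^ n = h
    rw [hy', conj_zpow, hn']
    group
  have I₂ : Inst T τ y' :=
    { isP := I.isP
      tt := hττ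
      tT := fun h => hτA (hTA h)
      inv := by
        intro h hh
        obtain ⟨h1, h2⟩ := (hTmem h).1 hh
        refine (hTmem _).2 ⟨mul_mem (mul_mem hτS h1) hτS, ?_⟩
        have h3 := St.hnorm τ hτG h h2
        rwa [hτi] at h3
      xT := hy'T
      xo := hy'o
      tx := hτy
      fix := hfix }
  have hax : a * y' = y' * a := by
    rw [hl]
    exact ((Commute.refl a).zpow_right l).eq
  have han : a ∉ zpowers y' := by
    intro h
    have h3 := orderOf_dvd_of_mem_zpowers h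
    rw [hao, hy'o] at h3
    exact hbig h3
  obtain ⟨u, huT, hun, hux, hus, huu⟩ := comm_elt I₂ D.ha hax han
  rcases u_to_c I₂ huT hun hux hus huu with ⟨v, hv⟩ | ⟨c, C⟩
  · -- `T` is cyclic, which is absurd
    have hab' : b * a = a * b := by
      have h1 := D.hy
      have h2 := D.ha
      rw [hv] at h1 h2
      obtain ⟨i₁, hi₁⟩ := h1
      obtain ⟨i₂, hi₂⟩ := h2
      have hi₁' : v ^ i₁ = b := hi₁
      have hi₂' : v ^ i₂ = a := hi₂
      rw [← hi₁', ← hi₂']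
      exact ((Commute.refl v).zpow_zpow i₁ i₂).eq
    have h1 : a ^ δ = a ^ (1 : ℤ) := by
      rw [← D.hya, hab', zpow_one]
      group
    have h2 := (D.zeq δ 1).1 h1
    have h3 : (2 : ℤ) ^ (m + 2) ∣ (1 - δ) * 1 := by
      have e : (1 - δ) * 1 = -(δ - 1) := by ring
      rw [e]
      exact dvd_neg.mpr h2
    have h4 := D.dvd_of_sub_mul h3
    have h5 : (2 : ℤ) ∣ 1 := dvd_trans ⟨2 ^ m, by ring⟩ h4
    omega
  · have hy2 : y' * y' = DS.z a m := by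
      have h1 : y' * y' = a ^ (l + l) := by rw [hl, zpow_add]
      have h2 : (a ^ (l + l)) ^ 2 = 1 := by
        rw [← h1, sq]
        exact sq_sq_z4 hy'o
      rcases D.sq_pow h2 with h3 | h3
      · exact absurd (h1.trans h3) (sq_ne_one_z4 hy'o)
      · exact h1.trans h3
    rcases D.hmem c C.cT with ⟨n, hn⟩ | ⟨n, hn⟩
    · have h1 : (a ^ n) ^ 2 = 1 := by rw [← hn, sq, C.cc]
      apply C.cx
      rcases D.sq_pow h1 with h2 | h2
      · rw [hn, h2]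
        exact one_mem _
      · rw [hn, h2, ← hy2]
        exact mul_mem (mem_zpowers y') (mem_zpowers y')
    · have h1 := C.comm
      rw [hn, hl, D.mul_y_pow] at h1
      have h2 : a ^ l * (a ^ n * b) = a ^ (l + n) * b := by rw [← mul_assoc, ← zpow_add]
      rw [h2, D.eq_y] at h1
      have h3 : (2 : ℤ) ^ (m + 2) ∣ (1 - δ) * l := by
        have e : (1 - δ) * l = -(n + δ * l - (l + n)) := by ring
        rw [e]
        exact dvd_neg.mpr h1
      have h4 := D.dvd_of_sub_mul h3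
      rcases D.pow_of_dvd h4 with h5 | h5
      · exact ne_one_z4 hy'o (hl.trans h5)
      · apply sq_ne_one_z4 hy'o
        rw [hl, h5, ← sq]
        exact D.z_sq

end Cfsg.Agent.Lib.InvZ4.SD
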