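import Cfsg.Agent.Lib.InvZ4.AbC
import Cfsg.Agent.Lib.KleinSD.Final

/-!
# Applications of the strong transfer lemma of Thompson
-/

set_option autoImplicit false
set_option linter.unusedSectionVars false
set_option linter.unusedVariables false

namespace Cfsg.Agent.Lib.InvZ4.Thompson

open Subgroup Cfsg.Agent.Lib.InvZ4.Grow Cfsg.Agent.Lib.InvZ4.Cases Cfsg.Agent.Lib.InvZ4.AbP
open Cfsg.Agent.Lib.KleinSD (IsMax2 DS Ctx)

variable {G : Type*} [Group G] [Finite G]

theorem idx_two {T K : Subgroup G} {c : G} (hcT : c ∈ T) (hcK : c ∉ K) (hcc : c * c ∈ K)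
    (hcov : ∀ g ∈ T, g ∈ K ∨ c * g ∈ K) : (K.subgroupOf T).index = 2 := by
  rw [Subgroup.index_eq_two_iff]
  refine ⟨⟨c, hcT⟩, fun b => ?_⟩
  obtain ⟨b, hb⟩ := b
  simp only [mem_subgroupOf, MulMemClass.mk_mul_mk]
  by_cases hbK : b ∈ K
  · refine Or.inr ⟨hbK, fun h => hcK ?_⟩
    have h3 := K.mul_mem (K.inv_mem hbK) h
    simpa using h3
  · refine Or.inl ⟨?_, hbK⟩
    rcases hcov b⁻¹ (T.inv_mem hb) with h | h
    · exact absurd ((K.inv_mem_iff).1 h) hbK
    · have h3 := K.mul_mem (K.inv_mem h) hcc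
      convert h3 using 1
      group

theorem sq_mem {T K : Subgroup G} {c : G} (hcT : c ∈ T) (hcK : c ∉ K) (hcc : c * c ∈ K)
    (hcov : ∀ g ∈ T, g ∈ K ∨ c * g ∈ K) {g : G} (hg : g ∈ T) : g * g ∈ K := by
  have h := Subgroup.mul_self_mem_of_index_two (idx_two hcT hcK hcc hcov) ⟨g, hg⟩
  simpa [mem_subgroupOf] using h

theorem thompson {A T K : Subgroup G} (hT : IsMax2 T A) (hperf : ∀ (f : A →* ℤˣ) (g : A), f g = 1)
    (hKT : K ≤ T) {c : G} (hcT : c ∈ T) (hcK : c ∉ K) (hcc : c * c ∈ K)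
    (hcov : ∀ g ∈ T, g ∈ K ∨ c * g ∈ K) {u : G} (huA : u ∈ A) (n : ℕ) (hun : u ^ (2 ^ n) = 1)
    (hmin : ∀ k : ℕ, k ≠ 1 → k ∣ 2 ^ n → ∀ g ∈ A, g⁻¹ * u ^ k * g ∈ T → g⁻¹ * u ^ k * g ∈ K)
    (P : Subgroup G) (hPA : P ≤ A) (hPp : IsPGroup 2 P) (hPc : ∀ p ∈ P, p * u = u * p) :
    ∃ g ∈ A, g⁻¹ * u * g ∈ K ∧ ∀ p ∈ P, g⁻¹ * p * g ∈ T := by
  have hTA := hT.le
  have hrel : (K.subgroupOf A).relIndex (T.subgroupOf A) = 2 := by
    rw [← idx_two hcT hcK hcc hcov]
    rw [Subgroup.subgroupOf, Subgroup.relIndex_comap]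
    have : (T.subgroupOf A).map A.subtype = T := by
      rw [Subgroup.subgroupOf, Subgroup.map_comap_eq]
      simpa using hTA
    rw [this]
    rfl
  obtain ⟨g, hg1, hg2⟩ := Cfsg.Agent.Lib.LocalStruct.ThompsonIdx.exists_conj_mem hperf
    (H := T.subgroupOf A) (K := K.subgroupOf A) hT.not_dvd_index
    (fun x hx => hKT hx) hrel (x := ⟨u, huA⟩) n
    (by apply Subtype.ext; simpa using hun)
    (by
      intro k hk hk2 g hg
      have := hmin k hk hk2 g g.2 (by simpa [mem_subgroupOf] using hg)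
      simpa [mem_subgroupOf] using this)
    (P.subgroupOf A)
    (by
      rintro ⟨⟨p, hpA⟩, hp⟩
      obtain ⟨k, hk⟩ := hPp ⟨p, hp⟩
      refine ⟨k, ?_⟩
      apply Subtype.ext
      apply Subtype.ext
      have := congrArg Subtype.val hk
      simpa using this)
    (by
      rintro ⟨p, hpA⟩ hp
      apply Subtype.ext
      exact hPc p hp)
  refine ⟨g, g.2, ?_, ?_⟩
  · simpa [mem_subgroupOf] using hg1
  · intro p hp
    have := hg2 ⟨p, hPA hp⟩ (by simpa [mem_subgroupOf] using hp)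
    simpa [mem_subgroupOf] using this

theorem hmin_invol {K T A : Subgroup G} {u : G} (hu : u * u = 1) :
    ∀ k : ℕ, k ≠ 1 → k ∣ 2 ^ 1 → ∀ g ∈ A, g⁻¹ * u ^ k * g ∈ T → g⁻¹ * u ^ k * g ∈ K := by
  intro k hk hk2 g _ _
  have hk' : k = 2 := by
    rcases (Nat.dvd_prime_pow Nat.prime_two).mp hk2 with ⟨i, hi, rfl⟩
    have : i = 0 ∨ i = 1 := by omega
    rcases this with rfl | rfl
    · exact absurd rfl hk
    · rfl
  subst hk'
  rw [sq, hu]
  simp [K.one_mem]

/-- The first shape. -/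
theorem no_O2 {A T : Subgroup G} (hT : IsMax2 T A) (hperf : ∀ (f : A →* ℤˣ) (g : A), f g = 1)
    {x c : G} (hxT : x ∈ T) (hcT : c ∈ T) (hcc : c * c = 1) (hc1 : c ≠ 1) (hcx : c * x = x * c)
    (hcz : c ≠ x * x) (hz1 : x * x ≠ 1) (hzz : (x * x) * (x * x) = 1) (hO : O2 T c (x * x)) :
    False := by
  obtain ⟨K, hKT, hcK, hcov, hinv⟩ := hO
  have hcc' : c * c ∈ K := by rw [hcc]; exact K.one_mem
  have hTA := hT.le
  have hp : IsPGroup 2 (zpowers x) := hT.isP.to_le (zpowers_le.mpr hxT)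
  obtain ⟨g, hgA, hg1, hg2⟩ := thompson hT hperf hKT hcT hcK hcc' hcov (hTA hcT) 1
    (by rw [pow_one, sq, hcc]) (hmin_invol hcc) (zpowers x) (zpowers_le.mpr (hTA hxT)) hp (by
      rintro _ ⟨k, rfl⟩
      exact (((show Commute c x from hcx).zpow_right k).eq).symm)
  have hne : ∀ y : G, y ≠ 1 → g⁻¹ * y * g ≠ 1 := by
    intro y hy h
    apply hy
    have : y = g * (g⁻¹ * y * g) * g⁻¹ := by group
    rw [this, h]
    group
  have hy1 : (g⁻¹ * c * g) * (g⁻¹ * c * g) = 1 := by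
    calc (g⁻¹ * c * g) * (g⁻¹ * c * g) = g⁻¹ * (c * c) * g := by group
      _ = 1 := by rw [hcc]; group
  have hy2 : g⁻¹ * c * g = x * x := (hinv _ hg1 hy1).resolve_left (hne c hc1)
  have hx' := hg2 x (mem_zpowers x)
  have hxx : g⁻¹ * (x * x) * g ∈ K := by
    have h3 := sq_mem hcT hcK hcc' hcov hx'
    convert h3 using 1
    group
  have hz2 : (g⁻¹ * (x * x) * g) * (g⁻¹ * (x * x) * g) = 1 := by
    calc (g⁻¹ * (x * x) * g) * (g⁻¹ * (x * x) * g) = g⁻¹ * ((x * x) * (x * x)) * g := by group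
      _ = 1 := by rw [hzz]; group
  have hz3 : g⁻¹ * (x * x) * g = x * x := (hinv _ hxx hz2).resolve_left (hne _ hz1)
  apply hcz
  have h4 : g⁻¹ * c * g = g⁻¹ * (x * x) * g := by rw [hy2, hz3]
  exact mul_left_cancel (mul_right_cancel h4)

/-- The second shape. -/
theorem no_O3 {A T : Subgroup G} (hT : IsMax2 T A) (hperf : ∀ (f : A →* ℤˣ) (g : A), f g = 1)
    {x c : G} (hxT : x ∈ T) (hcT : c ∈ T) (hcc : c * c = 1) (hc1 : c ≠ 1) (hO : O3 T c (x * x)) :
    False := by
  obtain ⟨hcen, hnsq, K, hKT, hcK, hcov, hcentral⟩ := hO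
  have hcc' : c * c ∈ K := by rw [hcc]; exact K.one_mem
  have hTA := hT.le
  obtain ⟨g, hgA, hg1, hg2⟩ := thompson hT hperf hKT hcT hcK hcc' hcov (hTA hcT) 1
    (by rw [pow_one, sq, hcc]) (hmin_invol hcc) T hTA hT.isP hcen
  let f : T → T := fun p => ⟨g⁻¹ * p * g, hg2 p p.2⟩
  have hf : Function.Injective f := by
    intro p q h
    have h1 : g⁻¹ * (p : G) * g = g⁻¹ * q * g := congrArg Subtype.val h
    exact Subtype.ext (mul_left_cancel (mul_right_cancel h1))
  have hs : Function.Surjective f := Finite.injective_iff_surjective.mp hf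
  have hsurj : ∀ h ∈ T, ∃ p ∈ T, g⁻¹ * p * g = h := by
    intro h hh
    obtain ⟨p, hp⟩ := hs ⟨h, hh⟩
    exact ⟨p, p.2, congrArg Subtype.val hp⟩
  have hycen : ∀ h ∈ T, h * (g⁻¹ * c * g) = (g⁻¹ * c * g) * h := by
    intro h hh
    obtain ⟨p, hp, rfl⟩ := hsurj h hh
    calc g⁻¹ * p * g * (g⁻¹ * c * g) = g⁻¹ * (p * c) * g := by group
      _ = g⁻¹ * (c * p) * g := by rw [hcen p hp]
      _ = _ := by group
  rcases hcentral _ hg1 hycen with h | h
  · apply hc1
    have h2 : c = g * (g⁻¹ * c * g) * g⁻¹ := by group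
    rw [h2, h]
    group
  · obtain ⟨p, hp, hpx⟩ := hsurj x hxT
    apply hnsq p hp
    have h2 : g⁻¹ * (p * p) * g = g⁻¹ * c * g := by
      rw [h, ← hpx]
      group
    exact mul_left_cancel (mul_right_cancel h2)

/-- The dihedral group of order `8`. -/
theorem no_D8 {A T : Subgroup G} (hT : IsMax2 T A) (hperf : ∀ (f : A →* ℤˣ) (g : A), f g = 1)
    {t x e : G} (I : Inst T t x) (htN : t ∈ normalizer (A : Set G)) (heT : e ∈ T)
    (hex : e ∉ zpowers x) (hee : e * e = 1) (hc : e * x * e⁻¹ = x⁻¹) (hs : t * e * t = e * (x * x)) :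
    False := by
  have hcov := d8_top I heT hee hc hs hex
  have hzz := sq_sq_z4 I.xo
  have hei : e⁻¹ = e := inv_eq_of_mul_eq_one_left hee
  have hpe : ∀ j : ℤ, e * x ^ j * e = x ^ (-j) := by
    intro j
    have h1 : e * x ^ j * e⁻¹ = (e * x * e⁻¹) ^ j := by rw [conj_zpow]
    rw [hei] at h1 hc
    rw [h1, hc, inv_zpow, zpow_neg]
  have D : DS T x e 0 (-1) :=
    { hao := by simpa using I.xo
      ha := I.xT
      hy := heT
      hyM := hex
      hmem := by
        intro g hg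
        rcases hcov g hg with ⟨j, hj⟩ | ⟨j, hj⟩
        · exact Or.inl ⟨j, hj.symm⟩
        · right
          have hj' : x ^ j = e * g := hj
          refine ⟨-j, ?_⟩
          rw [← hpe j, hj']
          calc g = (e * e) * g * (e * e) := by rw [hee]; group
            _ = _ := by group
      hy2 := by rw [sq, hee]
      hya := by
        rw [hc, zpow_neg_one]
      hδ := Or.inl rfl }
  have hz : DS.z x 0 = x * x := by
    unfold DS.z
    rw [show ((2 : ℤ) ^ (0 + 1)) = 2 by norm_num, zpow_two]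
  have hwx : (t * x) * x = x * (t * x) := by
    have h1 : t * x = x * t := by
      have := I.tx
      calc t * x = t * x * t * t := by rw [mul_assoc _ t t, I.tt, mul_one]
        _ = x * t := by rw [this]
    calc (t * x) * x = (x * t) * x := by rw [h1]
      _ = x * (t * x) := by group
  have hwe : (t * x) * e = e * (t * x) := by
    have h1 : x * e = e * x⁻¹ := by
      calc x * e = (e * e) * x * e⁻¹ := by rw [hee, hei, one_mul]
        _ = e * (e * x * e⁻¹) := by group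
        _ = e * x⁻¹ := by rw [hc]
    have h2 : t * e = e * (x * x) * t := by
      rw [← hs, mul_assoc _ t t, I.tt, mul_one]
    have h3 : t * x⁻¹ = x⁻¹ * t := by
      have h4 := I.sigma_inv x
      rw [I.tx] at h4
      calc t * x⁻¹ = t * x⁻¹ * t * t := by rw [mul_assoc _ t t, I.tt, mul_one]
        _ = x⁻¹ * t := by rw [h4]
    have h5 : t * x = x * t := by
      calc t * x = t * x * t * t := by rw [mul_assoc _ t t, I.tt, mul_one]
        _ = x * t := by rw [I.tx]
    calc (t * x) * e = t * (x * e) := by group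
      _ = t * (e * x⁻¹) := by rw [h1]
      _ = (t * e) * x⁻¹ := by group
      _ = e * (x * x) * (t * x⁻¹) := by rw [h2]; group
      _ = e * (x * x) * (x⁻¹ * t) := by rw [h3]
      _ = e * (x * t) := by group
      _ = e * (t * x) := by rw [h5]
  have hwT : ∀ h ∈ T, (t * x) * h = h * (t * x) := by
    intro h hh
    rcases D.hmem h hh with ⟨j, rfl⟩ | ⟨j, rfl⟩
    · exact (((show Commute (t * x) x from hwx).zpow_right j).eq)
    · have h1 : (t * x) * x ^ j = x ^ j * (t * x) := (((show Commute (t * x) x from hwx).zpow_right j).eq)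
      calc (t * x) * (x ^ j * e) = ((t * x) * x ^ j) * e := by group
        _ = x ^ j * ((t * x) * e) := by rw [h1]; group
        _ = x ^ j * (e * (t * x)) := by rw [hwe]
        _ = _ := by group
  have hw2 : (t * x) ^ 2 = DS.z x 0 := by
    rw [hz, sq]
    have h5 : t * x = x * t := by
      calc t * x = t * x * t * t := by rw [mul_assoc _ t t, I.tt, mul_one]
        _ = x * t := by rw [I.tx]
    calc t * x * (t * x) = t * (x * t) * x := by group
      _ = t * (t * x) * x := by rw [h5]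
      _ = (t * t) * (x * x) := by group
      _ = x * x := by rw [I.tt, one_mul]
  have hxN : x ∈ normalizer (A : Set G) := Subgroup.le_normalizer (hT.le I.xT)
  have C : Ctx A T (DS.z x 0) (DS.r x 0) (t * x) :=
    { hT := hT
      hzT := D.z_mem
      hz2 := D.z_sq
      hz1 := D.z_ne_one
      hzc := fun h hh => D.z_comm hh
      hC := by
        intro v hv hv2 hv1 hvz h hh hc
        obtain ⟨j, hj⟩ := D.inv_form hv hv2 hv1 hvz
        exact D.centralizer_form j hj hh hc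
      hrT := D.r_mem
      hr := D.r_sq
      hrv := fun v hv hv2 hv1 hvz => D.r_conj' hv hv2 hv1 hvz
      hwN := mul_mem htN hxN
      hwT := hwT
      hw2 := hw2 }
  exact D.d_false rfl C hperf

end Cfsg.Agent.Lib.InvZ4.Thompson
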