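import Cfsg.Agent.Lib.InvZ4.SD
import Cfsg.Agent.Lib.InvZ4.MetaPerf
import Cfsg.Agent.S4399
import Cfsg.Agent.S0218
import Cfsg.Agent.Lib.KleinSD.Main
import Cfsg.Agent.Lib.PGroups.MaximalClass

/-!
# An involution on a perfect group with fixed points of `2`-part cyclic of order four
-/

set_option autoImplicit false
set_option linter.unusedSectionVars false
set_option linter.unusedVariables false

namespace Cfsg.Agent.Lib.InvZ4.Top

open Subgroup Cfsg.Agent.Lib.InvZ4.Grow Cfsg.Agent.Lib.InvZ4.Cases Cfsg.Agent.Lib.InvZ4.AbP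
  Cfsg.Agent.Lib.InvZ4.AbC Cfsg.Agent.Lib.InvZ4.Thompson Cfsg.Agent.Lib.InvZ4.SD
open Cfsg.Agent.Lib.KleinSD (IsMax2 DS Ctx)

universe u

variable {G : Type u} [Group G] [Finite G]

theorem exists_sylow {T K : Subgroup G} (h : IsMax2 T K) :
    ∃ S : Sylow 2 K, (S : Subgroup K) = T.subgroupOf K := by
  have hTp : IsPGroup 2 (T.subgroupOf K) := by
    rintro ⟨⟨t, htK⟩, ht⟩
    obtain ⟨k, hk⟩ := h.isP ⟨t, ht⟩
    refine ⟨k, ?_⟩
    apply Subtype.ext
    apply Subtype.ext
    have := congrArg Subtype.val hk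
    simpa using this
  refine ⟨{ toSubgroup := T.subgroupOf K
            isPGroup' := hTp
            is_maximal' := ?_ }, rfl⟩
  intro R hR hTR
  apply le_antisymm _ hTR
  have hRm : IsPGroup 2 (R.map K.subtype) := hR.map _
  have hle : R.map K.subtype ≤ K := by
    rintro _ ⟨r, _, rfl⟩
    exact r.2
  have hTm : T ≤ R.map K.subtype := by
    intro t ht
    exact ⟨⟨t, h.le ht⟩, hTR (by simpa [mem_subgroupOf] using ht), rfl⟩
  have := h.max _ hle hRm hTm
  intro r hr
  rw [mem_subgroupOf]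
  exact this ⟨r, hr, rfl⟩

/-- A cyclic normal subgroup with a large cyclic quotient in a perfect group of even order. -/
theorem no_QC {A T : Subgroup G} (hT : IsMax2 T A) (hc : commutator A = ⊤) (h2 : 2 ∣ Nat.card A)
    (hQ : QC T) : False := by
  classical
  obtain ⟨b, hbT, g₁, hg₁T, hnorm, hcov, hg₁⟩ := hQ
  have hTA := hT.le
  obtain ⟨S, hS⟩ := exists_sylow hT
  have hSmem : ∀ s : A, s ∈ (S : Subgroup A) ↔ (s : G) ∈ T := by
    intro s
    rw [hS, mem_subgroupOf]
  let b' : (S : Subgroup A) := ⟨⟨b, hTA hbT⟩, (hSmem _).2 hbT⟩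
  let g' : (S : Subgroup A) := ⟨⟨g₁, hTA hg₁T⟩, (hSmem _).2 hg₁T⟩
  let N : Subgroup (S : Subgroup A) := zpowers b'
  have hNmem : ∀ y : (S : Subgroup A), y ∈ N ↔ ((y : A) : G) ∈ zpowers b := by
    intro y
    constructor
    · rintro ⟨k, rfl⟩
      exact ⟨k, by simp [b']⟩
    · rintro ⟨k, hk⟩
      refine ⟨k, ?_⟩
      apply Subtype.ext
      apply Subtype.ext
      simpa [b'] using hk
  haveI hN : N.Normal := ⟨by
    intro n hn h
    rw [hNmem] at hn ⊢
    obtain ⟨k, hk⟩ := hn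
    have hk' : b ^ k = ((n : A) : G) := hk
    have h1 : (((h * n * h⁻¹ : (S : Subgroup A)) : A) : G) =
        ((h : A) : G) * ((n : A) : G) * ((h : A) : G)⁻¹ := by simp
    rw [h1, ← hk', ← conj_zpow]
    exact zpow_mem (hnorm _ ((hSmem _).1 h.2)) k⟩
  have hNc : IsCyclic N := by
    refine ⟨⟨⟨b', mem_zpowers b'⟩, ?_⟩⟩
    rintro ⟨_, k, rfl⟩
    exact ⟨k, rfl⟩
  have hQc : IsCyclic ((S : Subgroup A) ⧸ N) := by
    refine ⟨⟨(g' : (S : Subgroup A) ⧸ N), ?_⟩⟩
    intro q
    induction q using QuotientGroup.induction_on with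
    | H h =>
      obtain ⟨k, hk⟩ := hcov _ ((hSmem _).1 h.2)
      refine ⟨-k, ?_⟩
      have h1 : ((h * g' ^ k : (S : Subgroup A)) : (S : Subgroup A) ⧸ N) = 1 := by
        rw [QuotientGroup.eq_one_iff, hNmem]
        simpa [g'] using hk
      rw [QuotientGroup.mk_mul, QuotientGroup.mk_zpow] at h1
      show (g' : (S : Subgroup A) ⧸ N) ^ (-k) = _
      rw [zpow_neg]
      exact (eq_inv_of_mul_eq_one_left h1).symm
  have hq2 : (g' : (S : Subgroup A) ⧸ N) ^ 2 ≠ 1 := by
    rw [← QuotientGroup.mk_pow, Ne, QuotientGroup.eq_one_iff, hNmem]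
    simpa [sq, g'] using hg₁
  have hQ : 2 < Nat.card ((S : Subgroup A) ⧸ N) := by
    by_contra hle
    push_neg at hle
    have hpos : 0 < Nat.card ((S : Subgroup A) ⧸ N) := Nat.card_pos
    have h1 := pow_card_eq_one' (x := (g' : (S : Subgroup A) ⧸ N))
    apply hq2
    have h3 : Nat.card ((S : Subgroup A) ⧸ N) = 1 ∨ Nat.card ((S : Subgroup A) ⧸ N) = 2 := by omega
    rcases h3 with h | h
    · rw [h, pow_one] at h1
      rw [h1, one_pow]
    · rwa [h] at h1
  have hodd := Cfsg.Agent.Lib.InvZ4.MetaPerf.main_perf hc S N hNc hQc hQ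
  exact (Nat.not_even_iff_odd.mpr hodd) (even_iff_two_dvd.mpr h2)

theorem qc_of_cyclic {T : Subgroup G} {x v : G} (hxT : x ∈ T) (hz1 : x * x ≠ 1) (hv : T = zpowers v) :
    QC T := by
  have hvT : v ∈ T := by rw [hv]; exact mem_zpowers v
  refine ⟨1, T.one_mem, v, hvT, ?_, ?_, ?_⟩
  · intro h _
    simp
  · intro h hh
    rw [hv] at hh
    obtain ⟨k, hk⟩ := hh
    have hk' : v ^ k = h := hk
    refine ⟨-k, ?_⟩
    rw [← hk', ← zpow_add]
    simp
  · rw [zpowers_one_eq_bot, mem_bot]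
    intro hvv
    rw [hv] at hxT
    obtain ⟨k, hk⟩ := hxT
    have hk' : v ^ k = x := hk
    apply hz1
    rw [← hk', ← zpow_add, ← two_mul, zpow_mul, zpow_two, hvv, one_zpow]

/-- The data of a semidihedral group give the coordinates. -/
theorem ds_of_sd {T : Subgroup G} {k : ℕ} (hcard : Nat.card T = 2 ^ (k + 4)) (a b : T)
    (ha : orderOf a = 2 ^ (k + 3)) (hb : orderOf b = 2)
    (hr : b * a * b⁻¹ = a ^ (2 ^ (k + 2) - 1)) :
    DS T (a : G) (b : G) (k + 1) ((2 : ℤ) ^ (k + 1 + 1) - 1) := by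
  have hao : orderOf (a : G) = 2 ^ (k + 3) := by
    rw [Subgroup.orderOf_coe, ha]
  have hb2 : (b : G) ^ 2 = 1 := by
    have h1 := pow_orderOf_eq_one b
    rw [hb] at h1
    simpa using congrArg Subtype.val h1
  have hbb : (b : G) * b = 1 := by rw [← sq, hb2]
  have hbi : (b : G)⁻¹ = b := inv_eq_of_mul_eq_one_left hbb
  have hya : (b : G) * a * (b : G)⁻¹ = (a : G) ^ ((2 : ℤ) ^ (k + 1 + 1) - 1) := by
    have h1 : (b : G) * a * (b : G)⁻¹ = (a : G) ^ (2 ^ (k + 2) - 1) := by
      have := congrArg Subtype.val hr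
      simpa using this
    have h2 : ((2 : ℤ) ^ (k + 1 + 1) - 1) = ((2 ^ (k + 2) - 1 : ℕ) : ℤ) := by
      rw [Nat.cast_sub Nat.one_le_two_pow]
      push_cast
      rfl
    rw [h1, h2, zpow_natCast]
  have hyM : (b : G) ∉ zpowers (a : G) := by
    rintro ⟨j, hj⟩
    have hj' : (a : G) ^ j = b := hj
    have hcomm : (b : G) * a = a * b := by
      rw [← hj']
      exact ((Commute.refl (a : G)).zpow_left j).eq
    have h1 : (a : G) ^ ((2 : ℤ) ^ (k + 1 + 1) - 1 - 1) = 1 := by
      rw [zpow_sub, ← hya, hcomm]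
      group
    have h2 := orderOf_dvd_iff_zpow_eq_one.mpr h1
    rw [hao] at h2
    obtain ⟨c, hc⟩ := h2
    push_cast at hc
    have h3 : (2 : ℤ) ^ (k + 1 + 1) = 4 * 2 ^ k := by ring
    have h4 : (2 : ℤ) ^ (k + 3) = 8 * 2 ^ k := by ring
    rw [h3, h4] at hc
    have h5 : 4 * (2 : ℤ) ^ k - 1 - 1 = 8 * ((2 : ℤ) ^ k * c) := by
      rw [hc]
      ring
    omega
  have hmem : ∀ t ∈ T, (∃ j : ℤ, t = (a : G) ^ j) ∨ (∃ j : ℤ, t = (a : G) ^ j * b) := by
    have hle : zpowers (a : G) ≤ T := zpowers_le.mpr a.2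
    have hcardH : Nat.card ((zpowers (a : G)).subgroupOf T) = 2 ^ (k + 3) := by
      have h1 : Nat.card ((zpowers (a : G)).subgroupOf T) = Nat.card (zpowers (a : G)) :=
        Nat.card_congr (subgroupOfEquivOfLe hle).toEquiv
      rw [h1, Nat.card_zpowers, hao]
    have hidx : ((zpowers (a : G)).subgroupOf T).index = 2 := by
      have h1 := Subgroup.card_mul_index ((zpowers (a : G)).subgroupOf T)
      rw [hcardH, hcard] at h1
      have h2 : 2 ^ (k + 4) = 2 ^ (k + 3) * 2 := by ring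
      rw [h2] at h1
      exact Nat.eq_of_mul_eq_mul_left (by positivity) h1
    intro t ht
    by_cases h : t ∈ zpowers (a : G)
    · obtain ⟨j, hj⟩ := h
      exact Or.inl ⟨j, hj.symm⟩
    · right
      have h3 : (⟨t, ht⟩ : T) * b ∈ (zpowers (a : G)).subgroupOf T := by
        rw [Subgroup.mul_mem_iff_of_index_two hidx, mem_subgroupOf, mem_subgroupOf]
        exact iff_of_false h hyM
      rw [mem_subgroupOf] at h3
      obtain ⟨j, hj⟩ := h3
      have hj' : (a : G) ^ j = t * b := hj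
      refine ⟨j, ?_⟩
      rw [hj', mul_assoc, hbb, mul_one]
  exact
    { hao := hao
      ha := a.2
      hy := b.2
      hyM := hyM
      hmem := hmem
      hy2 := hb2
      hya := hya
      hδ := Or.inr ⟨by omega, rfl⟩ }

/-- A self-centralizing cyclic subgroup of order four. -/
theorem selfcent_case {A T S₀ G₀ : Subgroup G} {t x e : G} (St : Setting A T S₀ G₀ t x)
    (hperf : ∀ (f : A →* ℤˣ) (g : A), f g = 1) (heT : e ∈ T) (hex : e ∉ zpowers x)
    (hee : e * e = x * x) (hc : e * x * e⁻¹ = x⁻¹)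
    (hself : ∀ g ∈ T, g * x = x * g → g ∈ zpowers x) :
    ∀ u ∈ T, ∀ v ∈ T, u ^ 2 = 1 → v ^ 2 = 1 → u ≠ 1 → v ≠ 1 → u = v := by
  classical
  haveI : Fact (Nat.Prime 2) := ⟨Nat.prime_two⟩
  have I := St.I
  have hz1 := sq_ne_one_z4 I.xo
  have hne := inv_ne_z4 I.xo
  have hpT : IsPGroup 2 T := I.isP
  obtain ⟨n, hn⟩ := hpT.exists_card_eq
  have hle : zpowers x ≤ T := zpowers_le.mpr I.xT
  let A₀ : Subgroup T := (zpowers x).subgroupOf T
  have hA₀ : Nat.card A₀ = 2 ^ 2 := by
    have h1 : Nat.card A₀ = Nat.card (zpowers x) :=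
      Nat.card_congr (subgroupOfEquivOfLe hle).toEquiv
    rw [h1, Nat.card_zpowers, I.xo]
    norm_num
  have hxA₀ : (⟨x, I.xT⟩ : T) ∈ A₀ := by
    rw [mem_subgroupOf]
    exact mem_zpowers x
  have hC : centralizer (A₀ : Set T) = A₀ := by
    apply le_antisymm
    · intro g hg
      rw [mem_subgroupOf]
      apply hself g g.2
      have h1 := (mem_centralizer_iff.1 hg) ⟨x, I.xT⟩ hxA₀
      exact (congrArg Subtype.val h1).symm
    · intro g hg
      rw [mem_centralizer_iff]
      intro h hh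
      have hh' : (h : G) ∈ zpowers x := hh
      have hg' : (g : G) ∈ zpowers x := hg
      obtain ⟨i, hi⟩ := hh'
      obtain ⟨j, hj⟩ := hg'
      apply Subtype.ext
      have hi' : x ^ i = (h : G) := hi
      have hj' : x ^ j = (g : G) := hj
      show (h : G) * g = g * h
      rw [← hi', ← hj']
      exact ((Commute.refl x).zpow_zpow i j).eq
  have hn3 : 3 ≤ n := by
    by_contra hlt
    have hn2 : Nat.card T ≤ 4 := by
      rw [hn]
      calc 2 ^ n ≤ 2 ^ 2 := Nat.pow_le_pow_right (by norm_num) (by omega)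
        _ = 4 := by norm_num
    have hdvd : Nat.card A₀ ∣ Nat.card T := Subgroup.card_subgroup_dvd_card A₀
    have hA₀T : A₀ = ⊤ := by
      apply Subgroup.eq_top_of_le_card
      rw [hA₀]
      omega
    apply hex
    have h1 : (⟨e, heT⟩ : T) ∈ A₀ := by
      rw [hA₀T]
      exact mem_top _
    exact h1
  have hcl := Cfsg.Agent.Lib.PGroups.MaximalClass.class_of_self_centralizing n hn A₀ hA₀ hC
  have hK := Cfsg.Agent.Lib.PGroups.MaximalClass.isKleinFour_of_class hn3 hn hcl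
  have hxe : (⟨x, I.xT⟩ : T) * ⟨e, heT⟩ ≠ ⟨e, heT⟩ * ⟨x, I.xT⟩ := by
    intro h
    have h1 : x * e = e * x := congrArg Subtype.val h
    apply hne
    rw [← hc, ← h1]
    group
  rcases Cfsg.Agent.S4399.result hpT hK.card_four (fun y => by
      have h7 : Monoid.exponent (Abelianization T) = 2 := hK.exponent_two
      have := Monoid.pow_exponent_eq_one y
      rwa [h7] at this) with
    h4 | ⟨k, ⟨φ⟩⟩ | ⟨k, hk, a, b, ha, hb, hr⟩ | ⟨k, ⟨φ⟩⟩
  · exfalso
    rw [hn] at h4
    have : 2 ^ 3 ≤ 2 ^ n := Nat.pow_le_pow_right (by norm_num) hn3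
    omega
  · exfalso
    have hsr : ∀ y : T, (y : G) * y ≠ 1 → ∃ i, φ y = DihedralGroup.r i := by
      intro y hy
      cases hφ : φ y with
      | r i => exact ⟨i, rfl⟩
      | sr i =>
        exfalso
        apply hy
        have h1 : φ (y * y) = 1 := by
          rw [map_mul, hφ, DihedralGroup.sr_mul_sr, sub_self]
          rfl
        have h2 : y * y = 1 := by
          apply φ.injective
          rw [h1, map_one]
        exact congrArg Subtype.val h2
    obtain ⟨i, hi⟩ := hsr ⟨x, I.xT⟩ hz1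
    obtain ⟨j, hj⟩ := hsr ⟨e, heT⟩ (by simpa [hee] using hz1)
    apply hxe
    apply φ.injective
    rw [map_mul, map_mul, hi, hj, DihedralGroup.r_mul_r, DihedralGroup.r_mul_r]
    exact congrArg _ (add_comm i j)
  · exfalso
    exact no_SD St hperf (ds_of_sd hk a b ha hb hr) (by omega) rfl hself
  · intro u hu v hv hu2 hv2 hu1 hv1
    have h1 := Cfsg.Agent.S0218.result k
    rw [Nat.card_eq_one_iff_unique] at h1
    obtain ⟨h2, -⟩ := h1
    have hord : ∀ y (hy : y ∈ T), y ^ 2 = 1 → y ≠ 1 → orderOf (φ ⟨y, hy⟩) = 2 := by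
      intro y hy hy2 hy1
      rw [MulEquiv.orderOf_eq]
      apply orderOf_eq_prime
      · apply Subtype.ext
        simpa using hy2
      · intro h
        exact hy1 (congrArg Subtype.val h)
    have h3 : (⟨φ ⟨u, hu⟩, hord u hu hu2 hu1⟩ : {y : QuaternionGroup (2 ^ (k + 1)) // orderOf y = 2}) =
        ⟨φ ⟨v, hv⟩, hord v hv hv2 hv1⟩ := Subsingleton.elim _ _
    have h4 := φ.injective (congrArg Subtype.val h3)
    exact congrArg Subtype.val h4

/-- The main theorem in terms of a generator of the fixed `2`-subgroup. -/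
theorem main_rank {A : Subgroup G} (hcm : commutator A = ⊤) {t x : G} (htt : t * t = 1) (ht1 : t ≠ 1)
    (htN : t ∈ normalizer (A : Set G)) (hxo : orderOf x = 4)
    (hZ : IsMax2 (zpowers x) (A ⊓ centralizer ({t} : Set G))) : Cfsg.PRankLE 2 1 A := by
  classical
  have hperf : ∀ (f : A →* ℤˣ) (g : A), f g = 1 := by
    intro f g
    have h2 : (⊤ : Subgroup A) ≤ f.ker := by
      rw [← hcm]
      exact Abelianization.commutator_subset_ker f
    exact h2 (Subgroup.mem_top g)
  have htinv : t⁻¹ = t := inv_eq_of_mul_eq_one_left htt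
  have hzz := sq_sq_z4 hxo
  have hz1 := sq_ne_one_z4 hxo
  have hx0 := hZ.le (mem_zpowers x)
  have hxA : x ∈ A := (Subgroup.mem_inf.mp hx0).1
  have hxt : x * t = t * x := by
    have := Subgroup.mem_centralizer_singleton_iff.1 (Subgroup.mem_inf.mp hx0).2
    exact this
  have htx : t * x * t = x := by
    rw [← hxt, mul_assoc, htt, mul_one]
  have h2A : 2 ∣ Nat.card A := by
    have h1 : orderOf (⟨x, hxA⟩ : A) ∣ Nat.card A := orderOf_dvd_natCard _
    rw [Subgroup.orderOf_mk, hxo] at h1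
    exact dvd_trans (by norm_num) h1
  have hst : ∀ r ∈ zpowers x, t⁻¹ * r * t = r := by
    rintro _ ⟨k, rfl⟩
    show t⁻¹ * x ^ k * t = x ^ k
    have h1 : t⁻¹ * x * t = x := by rw [htinv, htx]
    have h2 := conj_zpow (a := t⁻¹) (b := x) (i := k)
    rw [inv_inv, h1] at h2
    exact h2.symm
  have h1x : ∀ n ∈ zpowers x, t⁻¹ * n * t ∈ zpowers x := by
    intro n hn
    rw [hst n hn]
    exact hn
  have h2x : t * t ∈ zpowers x := by
    rw [htt]
    exact one_mem _
  have hxp : IsPGroup 2 (zpowers x) := hZ.isP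
  have hQp : IsPGroup 2 (ext2 (zpowers x) t h1x h2x) := isP_ext2 hxp
  by_cases htA : t ∈ A
  · exfalso
    have htC : t ∈ A ⊓ centralizer ({t} : Set G) :=
      Subgroup.mem_inf.mpr ⟨htA, Subgroup.mem_centralizer_singleton_iff.2 rfl⟩
    have hQle : ext2 (zpowers x) t h1x h2x ≤ A ⊓ centralizer ({t} : Set G) := by
      rintro g (hg | hg)
      · exact hZ.le hg
      · have h3 := mul_mem htC (hZ.le hg)
        simpa using h3
    have htx' : t ∈ zpowers x := hZ.max _ hQle hQp le_ext2 self_mem_ext2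
    have htz : t = x * x := invol_z4 hxo htx' htt ht1
    obtain ⟨T, hT, hxT⟩ := exists_max2 (zpowers_le.mpr hxA) hxp
    have hxT' : x ∈ T := hxT (mem_zpowers x)
    have hTx : T = zpowers x := by
      by_contra hne
      have hlt : zpowers x < T := lt_of_le_of_ne hxT (Ne.symm hne)
      obtain ⟨g, hgT, hgx, hgN⟩ := Cfsg.Agent.Lib.Transfer.Frobenius.exists_mem_normalizer_of_lt hT.isP hlt
      have h3 : g * x * g⁻¹ ∈ zpowers x := (mem_normalizer_iff.mp hgN x).mp (mem_zpowers x)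
      have h4 : orderOf (g * x * g⁻¹) = 4 := by rw [order_conj, hxo]
      have hgz : g * (x * x) * g⁻¹ = x * x := by
        have h5 : g * (x * x) * g⁻¹ = (g * x * g⁻¹) * (g * x * g⁻¹) := by group
        rcases order_conj_z4 hxo h3 h4 with h6 | h6
        · rw [h5, h6]
        · rw [h5, h6]
          have h7 : x⁻¹ * x⁻¹ = (x * x)⁻¹ := by group
          rw [h7, inv_eq_of_mul_eq_one_left hzz]
      have hgt : g * t = t * g := by
        rw [htz]
        calc g * (x * x) = g * (x * x) * g⁻¹ * g := by group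
          _ = (x * x) * g := by rw [hgz]
      let R : Subgroup G := T ⊓ centralizer ({t} : Set G)
      have hR : R ≤ A ⊓ centralizer ({t} : Set G) := inf_le_inf_right _ hT.le
      have hRp : IsPGroup 2 R := hT.isP.to_le inf_le_left
      have hxR : zpowers x ≤ R := by
        rw [zpowers_le]
        exact Subgroup.mem_inf.mpr ⟨hxT', Subgroup.mem_centralizer_singleton_iff.2 hxt⟩
      exact hgx (hZ.max R hR hRp hxR (Subgroup.mem_inf.mpr
        ⟨hgT, Subgroup.mem_centralizer_singleton_iff.2 hgt⟩))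
    exact no_QC hT hcm h2A (qc_of_cyclic hxT' hz1 hTx)
  -- `t` lies outside `A`
  have h1A : ∀ n ∈ A, t⁻¹ * n * t ∈ A := by
    intro n hn
    have h3 := (mem_normalizer_iff.mp (inv_mem htN) n).mp hn
    rwa [inv_inv] at h3
  have h2A' : t * t ∈ A := by
    rw [htt]
    exact A.one_mem
  let G₀ : Subgroup G := ext2 A t h1A h2A'
  have hAG : A ≤ G₀ := le_ext2
  have htG : t ∈ G₀ := self_mem_ext2
  have hnorm : ∀ k ∈ G₀, ∀ c ∈ A, k * c * k⁻¹ ∈ A := by
    rintro k (hk | hk) c hc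
    · exact mul_mem (mul_mem hk hc) (inv_mem hk)
    · have h3 : t⁻¹ * k * c * k⁻¹ * t ∈ A := by
        have h4 := mul_mem (mul_mem hk hc) (inv_mem hk)
        convert h4 using 1
        group
      have h4 := (mem_normalizer_iff.mp htN _).mp h3
      have h5 : t * (t⁻¹ * k * c * k⁻¹ * t) * t⁻¹ = k * c * k⁻¹ := by group
      rwa [h5] at h4
  have hQG : ext2 (zpowers x) t h1x h2x ≤ G₀ := by
    rintro g (hg | hg)
    · exact hAG ((zpowers_le.mpr hxA) hg)
    · have h3 := G₀.mul_mem htG (hAG ((zpowers_le.mpr hxA) hg))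
      simpa using h3
  obtain ⟨S₀, hS₀, hQS₀⟩ := exists_max2 hQG hQp
  have hxS₀ : x ∈ S₀ := hQS₀ (le_ext2 (mem_zpowers x))
  have htS₀ : t ∈ S₀ := hQS₀ self_mem_ext2
  have hT : IsMax2 (S₀ ⊓ A) A := hS₀.inf_normal hAG hnorm
  have hxT : x ∈ S₀ ⊓ A := Subgroup.mem_inf.mpr ⟨hxS₀, hxA⟩
  have hfix : ∀ g ∈ S₀ ⊓ A, t * g * t = g → g ∈ zpowers x := by
    intro g hg hgt
    let R : Subgroup G := (S₀ ⊓ A) ⊓ centralizer ({t} : Set G)
    have hR : R ≤ A ⊓ centralizer ({t} : Set G) := inf_le_inf_right _ hT.le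
    have hRp : IsPGroup 2 R := hT.isP.to_le inf_le_left
    have hxR : zpowers x ≤ R := by
      rw [zpowers_le]
      exact Subgroup.mem_inf.mpr ⟨hxT, Subgroup.mem_centralizer_singleton_iff.2 hxt⟩
    have hgc : g * t = t * g := by
      calc g * t = t * g * t * t := by rw [hgt]
        _ = t * g := by rw [mul_assoc _ t t, htt, mul_one]
    exact hZ.max R hR hRp hxR (Subgroup.mem_inf.mpr
      ⟨hg, Subgroup.mem_centralizer_singleton_iff.2 hgc⟩)
  have I : Inst (S₀ ⊓ A) t x :=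
    { isP := hT.isP
      tt := htt
      tT := fun h => htA (Subgroup.mem_inf.mp h).2
      inv := by
        intro g hg
        have hg' := Subgroup.mem_inf.mp hg
        refine Subgroup.mem_inf.mpr ⟨mul_mem (mul_mem htS₀ hg'.1) htS₀, ?_⟩
        have h3 := hnorm t htG g hg'.2
        rwa [htinv] at h3
      xT := hxT
      xo := hxo
      tx := htx
      fix := hfix }
  have St : Setting A (S₀ ⊓ A) S₀ G₀ t x := ⟨hT, rfl, hS₀, hAG, hnorm, htS₀, htA, I, hZ⟩
  rcases dich I with ⟨v, hv⟩ | ⟨c, C⟩ | ⟨e, heT, hex, hee, hc, hs⟩ | ⟨e, heT, hex, hee, hc, hs, hself⟩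
  · exact (no_QC hT hcm h2A (qc_of_cyclic hxT hz1 hv)).elim
  · have hc1 : c ≠ 1 := by
      rintro rfl
      exact C.cx (one_mem _)
    have hcz : c ≠ x * x := by
      intro h
      apply C.cx
      rw [h]
      exact mul_mem (mem_zpowers x) (mem_zpowers x)
    rcases ab_cases I C with h | h | h
    · exact (no_QC hT hcm h2A h).elim
    · exact (no_O2 hT hperf hxT C.cT C.cc hc1 C.comm hcz hz1 hzz h).elim
    · exact (no_O3 hT hperf hxT C.cT C.cc hc1 h).elim
  · exact (no_D8 hT hperf I htN heT hex hee hc hs).elim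
  · exact Cfsg.Agent.Lib.KleinSD.prank_of_unique hT
      (selfcent_case St hperf heT hex hee hc hself)

end Cfsg.Agent.Lib.InvZ4.Top
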